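import Cfsg.Agent.H867.RC.Spor
import Cfsg.Agent.H380.RC.Rules
import Cfsg.Agent.Co2Type.Quad
import Cfsg.Agent.H20.FrobTools

/-!
# S3509, sporadic groups: general lemmas (helper31)

* `ruleA` : `z` an involution with `Large Q z` (extraspecial `Q = O₂(C(z))`, `C(Q) ≤ Q`): a family of commuting
  elements of different prime orders which commute with `z`, the involution among them being `z`, is no cover;
* `frat_even` : in a group `C` an element `y` of prime order `q`, `q² ∤ |C|`, `2^k ∣ |C|`, `2^k ∤ q - 1`, commuting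
  with no involution, generates a normal subgroup of even order;
* `pair_even` : the consequence for covers `{x, y}`, `C = C(x)`: `{x, t}` is a cover for an involution `t ∈ C(x)`;
* `no_odd_pair` : no cover by a pair if commuting families with an involution are no covers.
-/

set_option autoImplicit false
open Cfsg

namespace Cfsg.Agent.H31.RC.Spor

open MulAction Subgroup Cfsg.Agent.H106.RC Cfsg.Agent.H380.RC Cfsg.Agent.Co2Type.Quad

section ruleA

variable {G : Type*} [Group G]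

/-- elements of `Q` have `x ^ 4 = 1` -/
theorem Large.pow_four {Q : Subgroup G} {z : G} (L : Large Q z) {x : G} (hx : x ∈ Q) : x ^ 4 = 1 := by
  have h1 : x ^ 4 = (x * x) * (x * x) := by rw [← pow_two, ← pow_two, ← pow_mul]
  rw [h1]
  rcases L.sq x hx with h | h
  · rw [h, one_mul]
  · rw [h, L.z_sq]

theorem Large.isPGroup {Q : Subgroup G} {z : G} (L : Large Q z) : IsPGroup 2 Q := by
  intro x
  exact ⟨2, Subtype.ext (by simpa using Large.pow_four L x.2)⟩

/-- `z ∈ [Q, x]` if `x ∉ C(Q)` -/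
theorem Large.mem_cmm {Q : Subgroup G} {z : G} (L : Large Q z) {x : G} (hx : x * z = z * x)
    (hne : ∃ u ∈ Q, u * x ≠ x * u) : z ∈ cmm Q x := by
  obtain ⟨u, hu, hux⟩ := hne
  set w : G := u * x * u⁻¹ * x⁻¹ with hw
  have hwm : w ∈ cmm Q x := H380.RC.mem_cmm hu
  have hwQ : w ∈ Q := by
    have h1 : w = u * (x * u⁻¹ * x⁻¹) := by rw [hw]; group
    rw [h1]
    exact Q.mul_mem hu (L.conj_mem x hx _ (Q.inv_mem hu))
  have hw1 : w ≠ 1 := by
    intro h
    apply hux
    rw [hw, mul_inv_eq_one, mul_inv_eq_iff_eq_mul] at h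
    exact h
  by_cases hwz : w = z
  · rw [← hwz]; exact hwm
  have h2 : ∃ y ∈ Q, w * y ≠ y * w := by
    by_contra hno
    push Not at hno
    rcases L.cent w hwQ hno with h | h
    · exact hw1 h
    · exact hwz h
  obtain ⟨y, hy, hwy⟩ := h2
  have h3 := (L.comm w hwQ y hy).resolve_left hwy
  have h4 : y * w⁻¹ * y⁻¹ ∈ cmm Q x := cmm_conj hy ((cmm Q x).inv_mem hwm)
  have h5 : w * (y * w⁻¹ * y⁻¹) = z := by
    have hz1 : z * w⁻¹ = w⁻¹ * z := by
      have := L.comm_z w⁻¹ (Q.inv_mem hwQ)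
      exact this.symm
    have hz2 : z * y⁻¹ = y⁻¹ * z := (L.comm_z y⁻¹ (Q.inv_mem hy)).symm
    calc w * (y * w⁻¹ * y⁻¹) = (w * y) * w⁻¹ * y⁻¹ := by group
      _ = y * w * z * w⁻¹ * y⁻¹ := by rw [h3]
      _ = y * w * (z * w⁻¹) * y⁻¹ := by group
      _ = y * (z * y⁻¹) := by rw [hz1]; group
      _ = z := by rw [hz2]; group
  rw [← h5]
  exact (cmm Q x).mul_mem hwm h4

/-- an element of odd prime order commuting with `z` does not centralise `Q` -/
theorem Large.not_cent {Q : Subgroup G} {z : G} (L : Large Q z) {x : G} (hx : x * z = z * x) {r : ℕ}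
    (hr : r.Prime) (hr2 : r ≠ 2) (hxr : x ^ r = 1) (hx1 : x ≠ 1) : ∃ u ∈ Q, u * x ≠ x * u := by
  by_contra hno
  push Not at hno
  have h1 : x ∈ Q := L.self x hx fun u hu => (hno u hu).symm
  have h2 := Large.pow_four L h1
  have hcop : Nat.Coprime 4 r := by
    have : Nat.Coprime 2 r := (Nat.coprime_primes Nat.prime_two hr).2 (Ne.symm hr2)
    exact Nat.Coprime.pow_left 2 this
  have h3 : orderOf x ∣ Nat.gcd 4 r := Nat.dvd_gcd (orderOf_dvd_of_pow_eq_one h2) (orderOf_dvd_of_pow_eq_one hxr)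
  rw [hcop] at h3
  exact hx1 (orderOf_eq_one_iff.1 (Nat.dvd_one.1 h3))

/-- **Rule (A).** -/
theorem ruleA {Ω ι : Type*} [MulAction G Ω] [Finite ι] (hF : ∀ t : G, t ≠ 1 → ∃ ω : Ω, t • ω ≠ ω)
    {x : ι → G} {r : ι → ℕ} (h : PF x r) (hc : Cov Ω x) {Q : Subgroup G} [Finite Q] {z : G} (L : Large Q z)
    (hcomm : ∀ i, x i * z = z * x i) (h2 : ∀ i, r i = 2 → x i = z) : False := by
  classical
  obtain ⟨ω, hω⟩ := hF z L.z_ne
  apply hω
  let κ := {i : ι // r i ≠ 2}
  have hp := Large.isPGroup L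
  have hfact : Fact (Nat.Prime 2) := ⟨Nat.prime_two⟩
  have hnil : Group.IsNilpotent Q := hp.isNilpotent
  obtain ⟨m, hm⟩ := (IsPGroup.iff_card).1 hp
  refine lr_rule (ι := κ) (x := fun i => x i.1) (r := fun i => r i.1) (fun i => h.prime _) (fun i => h.pow _)
    (fun i j => h.comm _ _) (U := Q) (y := z) ?_ ?_ hnil ?_ (fun u hu => L.comm_z u hu) ?_ ω
  · intro ω
    obtain ⟨i, hi⟩ := hc ω
    by_cases hr : r i = 2
    · left; rw [← h2 i hr]; exact hi
    · exact Or.inr ⟨⟨i, hr⟩, hi⟩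
  · intro i u hu
    exact L.conj_mem _ (hcomm _) u hu
  · intro i
    rw [hm]
    exact Nat.Coprime.pow_right _ ((Nat.coprime_primes (h.prime _) Nat.prime_two).2 i.2)
  · intro i
    exact Large.mem_cmm L (hcomm _) (Large.not_cent L (hcomm _) (h.prime _) i.2 (h.pow _) (h.ne _))

/-- conjugation of `Large` -/
theorem Large.conj {Q : Subgroup G} {z : G} (L : Large Q z) (g : G) :
    Large (Q.map (MulAut.conj g).toMonoidHom) (g * z * g⁻¹) := by
  have hmem : ∀ {x : G}, x ∈ Q.map (MulAut.conj g).toMonoidHom → g⁻¹ * x * g ∈ Q := by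
    rintro _ ⟨u, hu, rfl⟩
    have : g⁻¹ * ((MulAut.conj g).toMonoidHom u) * g = u := by
      show g⁻¹ * (g * u * g⁻¹) * g = u
      group
    rw [this]; exact hu
  have hmem' : ∀ {x : G}, g⁻¹ * x * g ∈ Q → x ∈ Q.map (MulAut.conj g).toMonoidHom := by
    intro x hx
    refine ⟨_, hx, ?_⟩
    show g * (g⁻¹ * x * g) * g⁻¹ = x
    group
  have hcz : ∀ {x : G}, x * (g * z * g⁻¹) = g * z * g⁻¹ * x → (g⁻¹ * x * g) * z = z * (g⁻¹ * x * g) := by
    intro x hx
    calc (g⁻¹ * x * g) * z = g⁻¹ * (x * (g * z * g⁻¹)) * g := by group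
      _ = g⁻¹ * (g * z * g⁻¹ * x) * g := by rw [hx]
      _ = z * (g⁻¹ * x * g) := by group
  refine ⟨⟨z, L.z_mem, rfl⟩, ?_, ?_, ?_, ?_, ?_, ?_, ?_, ?_⟩
  · intro h
    apply L.z_ne
    calc z = g⁻¹ * (g * z * g⁻¹) * g := by group
      _ = 1 := by rw [h]; group
  · calc g * z * g⁻¹ * (g * z * g⁻¹) = g * (z * z) * g⁻¹ := by group
      _ = 1 := by rw [L.z_sq]; group
  · intro x hx
    have h1 := L.comm_z _ (hmem hx)
    calc x * (g * z * g⁻¹) = g * ((g⁻¹ * x * g) * z) * g⁻¹ := by group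
      _ = g * (z * (g⁻¹ * x * g)) * g⁻¹ := by rw [h1]
      _ = g * z * g⁻¹ * x := by group
  · intro a ha x hx
    apply hmem'
    have h1 := L.conj_mem _ (hcz ha) _ (hmem hx)
    have h2 : g⁻¹ * (a * x * a⁻¹) * g = g⁻¹ * a * g * (g⁻¹ * x * g) * (g⁻¹ * a * g)⁻¹ := by group
    rw [h2]; exact h1
  · intro x hx
    rcases L.sq _ (hmem hx) with h | h
    · left
      calc x * x = g * ((g⁻¹ * x * g) * (g⁻¹ * x * g)) * g⁻¹ := by group
        _ = 1 := by rw [h]; group
    · right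
      calc x * x = g * ((g⁻¹ * x * g) * (g⁻¹ * x * g)) * g⁻¹ := by group
        _ = g * z * g⁻¹ := by rw [h]
  · intro x hx y hy
    rcases L.comm _ (hmem hx) _ (hmem hy) with h | h
    · left
      calc x * y = g * ((g⁻¹ * x * g) * (g⁻¹ * y * g)) * g⁻¹ := by group
        _ = g * ((g⁻¹ * y * g) * (g⁻¹ * x * g)) * g⁻¹ := by rw [h]
        _ = y * x := by group
    · right
      calc x * y = g * ((g⁻¹ * x * g) * (g⁻¹ * y * g)) * g⁻¹ := by group
        _ = g * ((g⁻¹ * y * g) * (g⁻¹ * x * g) * z) * g⁻¹ := by rw [h]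
        _ = y * x * (g * z * g⁻¹) := by group
  · intro x hx hy
    have hyy : ∀ y ∈ Q, (g⁻¹ * x * g) * y = y * (g⁻¹ * x * g) := by
      intro y hyQ
      have h1 := hy (g * y * g⁻¹) ⟨y, hyQ, rfl⟩
      calc (g⁻¹ * x * g) * y = g⁻¹ * (x * (g * y * g⁻¹)) * g := by group
        _ = g⁻¹ * ((g * y * g⁻¹) * x) * g := by rw [h1]
        _ = y * (g⁻¹ * x * g) := by group
    rcases L.cent _ (hmem hx) hyy with h | h
    · left
      calc x = g * (g⁻¹ * x * g) * g⁻¹ := by group
        _ = 1 := by rw [h]; group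
    · right
      calc x = g * (g⁻¹ * x * g) * g⁻¹ := by group
        _ = g * z * g⁻¹ := by rw [h]
  · intro a ha hx
    apply hmem'
    apply L.self _ (hcz ha)
    intro y hyQ
    have h1 := hx (g * y * g⁻¹) ⟨y, hyQ, rfl⟩
    calc (g⁻¹ * a * g) * y = g⁻¹ * (a * (g * y * g⁻¹)) * g := by group
      _ = g⁻¹ * ((g * y * g⁻¹) * a) * g := by rw [h1]
      _ = y * (g⁻¹ * a * g) := by group

end ruleA

section frat

/-- **Frattini**: `y` of prime order `q`, `q² ∤ |C|`, `2^k ∣ |C|`, `2^k ∤ q - 1`, `|C_C(y)|` odd; then the normal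
closure of `y` has even order -/
theorem frat_even {C : Type*} [Group C] [Finite C] {q k : ℕ} (hq : q.Prime) {y : C} (hy : orderOf y = q)
    (hqq : ¬ q * q ∣ Nat.card C) (hk : 2 ^ k ∣ Nat.card C) (hk' : ¬ 2 ^ k ∣ q - 1)
    (hodd : ¬ 2 ∣ Nat.card (centralizer ({y} : Set C))) :
    2 ∣ Nat.card (normalClosure ({y} : Set C)) := by
  classical
  by_contra hN
  have hfq : Fact q.Prime := ⟨hq⟩
  set N := normalClosure ({y} : Set C) with hNdef
  have hyN : y ∈ N := subset_normalClosure rfl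
  -- the Sylow subgroup `⟨y⟩` of `N`
  let y' : N := ⟨y, hyN⟩
  have hy' : orderOf y' = q := by rw [← hy]; exact Subgroup.orderOf_mk y hyN
  have hcardN : Nat.card N ∣ Nat.card C := Subgroup.card_subgroup_dvd_card N
  have hP : ¬ q ^ 2 ∣ Nat.card N := fun h => hqq (by rw [← pow_two]; exact h.trans hcardN)
  have hPg : IsPGroup q (zpowers y') := IsPGroup.of_card (n := 1) (by rw [Nat.card_zpowers, hy', pow_one])
  obtain ⟨P, hPle⟩ := hPg.exists_le_sylow
  have hPcard : Nat.card P = q := by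
    obtain ⟨m, hm⟩ := IsPGroup.iff_card.1 P.2
    have h1 : m < 2 := by
      by_contra hlt
      apply hP
      have : q ^ 2 ∣ q ^ m := pow_dvd_pow q (by omega)
      rw [← hm] at this
      exact this.trans (Subgroup.card_subgroup_dvd_card _)
    have h2 : q ∣ Nat.card P := by
      have := Subgroup.card_dvd_of_le hPle
      rwa [Nat.card_zpowers, hy'] at this
    rw [hm] at h2 ⊢
    interval_cases m
    · rw [pow_zero] at h2; exact absurd (Nat.dvd_one.1 h2) hq.one_lt.ne'
    · rw [pow_one]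
  have hPeq : zpowers y' = (P : Subgroup N) := by
    apply Subgroup.eq_of_le_of_card_ge hPle
    rw [Nat.card_zpowers, hy']; exact hPcard.le
  have hfr := P.normalizer_sup_eq_top
  rw [← hPeq] at hfr
  have hmap : (zpowers y').map N.subtype = zpowers y := by
    rw [MonoidHom.map_zpowers]; rfl
  rw [hmap] at hfr
  -- the 2-part
  have h1 : Nat.card C ∣ Nat.card (normalizer (zpowers y : Set C)) * Nat.card N := by
    have h2 : N.relIndex (normalizer (zpowers y : Set C)) = N.index := by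
      rw [← Subgroup.relIndex_sup_right (normalizer (zpowers y : Set C)) N, hfr, Subgroup.relIndex_top_right]
    rw [← Subgroup.index_mul_card N, ← h2]
    exact Nat.mul_dvd_mul_right (Subgroup.relIndex_dvd_card _ _) _
  have h3 : 2 ^ k ∣ Nat.card (normalizer (zpowers y : Set C)) := by
    have hcop : Nat.Coprime (2 ^ k) (Nat.card N) :=
      Nat.Coprime.pow_left k ((Nat.Prime.coprime_iff_not_dvd Nat.prime_two).2 hN)
    exact hcop.dvd_of_dvd_mul_right (hk.trans h1)
  have h4 := H20.FrobTools.card_normalizer_dvd hq hy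
  have h5 : 2 ^ k ∣ Nat.card (centralizer ({y} : Set C)) * (q - 1) := h3.trans h4
  have hcop : Nat.Coprime (2 ^ k) (Nat.card (centralizer ({y} : Set C))) :=
    Nat.Coprime.pow_left k ((Nat.Prime.coprime_iff_not_dvd Nat.prime_two).2 hodd)
  exact hk' (hcop.dvd_of_dvd_mul_left h5)

/-- **replacement by an involution**: `{x, y}` a cover, `y` of prime order `q`, `q² ∤ |C(x)|`, `2^k ∣ |C(x)|`,
`2^k ∤ q - 1`, no involution commutes with `x` and `y`; then `{x, t}` is a cover for an involution `t ∈ C(x)` -/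
theorem pair_even {S Ω : Type*} [Group S] [Finite S] [MulAction S Ω] {x y : S} (hxy : y * x = x * y) {q : ℕ} (k : ℕ)
    (hq : q.Prime) (hy : orderOf y = q) (hqq : ¬ q * q ∣ Nat.card (centralizer ({x} : Set S)))
    (hk : 2 ^ k ∣ Nat.card (centralizer ({x} : Set S))) (hk' : ¬ 2 ^ k ∣ q - 1)
    (hno : ∀ t : S, orderOf t = 2 → t * x = x * t → t * y = y * t → False)
    (hcov : ∀ ω : Ω, x • ω = ω ∨ y • ω = ω) :
    ∃ t : S, orderOf t = 2 ∧ t * x = x * t ∧ ∀ ω : Ω, x • ω = ω ∨ t • ω = ω := by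
  classical
  have hf2 : Fact (Nat.Prime 2) := ⟨Nat.prime_two⟩
  have hyC : y ∈ centralizer ({x} : Set S) := mem_centralizer_singleton_iff.2 hxy
  let y' : centralizer ({x} : Set S) := ⟨y, hyC⟩
  have hy' : orderOf y' = q := by rw [← hy]; exact Subgroup.orderOf_mk y hyC
  have hodd : ¬ 2 ∣ Nat.card (centralizer ({y'} : Set (centralizer ({x} : Set S)))) := by
    intro hd
    obtain ⟨t, ht⟩ := exists_prime_orderOf_dvd_card' 2 hd
    have h1 : orderOf ((t : centralizer ({x} : Set S)) : S) = 2 := by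
      rw [Subgroup.orderOf_coe, Subgroup.orderOf_coe, ht]
    have h2 := mem_centralizer_singleton_iff.1 t.1.2
    have h3 := congrArg Subtype.val (mem_centralizer_singleton_iff.1 t.2)
    exact hno _ h1 h2 h3
  have h1 := frat_even hq hy' hqq hk hk' hodd
  obtain ⟨t, ht⟩ := exists_prime_orderOf_dvd_card' 2 h1
  refine ⟨((t : centralizer ({x} : Set S)) : S), by rw [Subgroup.orderOf_coe, Subgroup.orderOf_coe, ht],
    mem_centralizer_singleton_iff.1 t.1.2, ?_⟩
  refine Cfsg.Agent.H867.RC.pair_mv hcov ?_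
  have h2 : (normalClosure ({y'} : Set (centralizer ({x} : Set S)))).map (centralizer ({x} : Set S)).subtype ≤
      closure {z | ∃ c : S, c * x = x * c ∧ z = c * y * c⁻¹} := by
    rw [normalClosure, MonoidHom.map_closure, closure_le]
    rintro _ ⟨w, hw, rfl⟩
    obtain ⟨a, ha, hw⟩ := Group.mem_conjugatesOfSet_iff.1 hw
    rw [Set.mem_singleton_iff] at ha
    subst ha
    obtain ⟨c, hc⟩ := isConj_iff.1 hw
    refine subset_closure ⟨(c : S), mem_centralizer_singleton_iff.1 c.2, ?_⟩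
    rw [← hc]
    rfl
  exact h2 ⟨_, t.2, rfl⟩

end frat

end Cfsg.Agent.H31.RC.Spor
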