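import Cfsg.Agent.H31.RC.Spor.HN
import Cfsg.Agent.H187.Ore.HN15
import Cfsg.Agent.H651.HNF.Big

/-!
# S3509, the Harada-Norton group: the covers by inner elements (helper31)

* `seven` : the normal closure in `C(x)`, `|x| = 7`, of an element of order 3 or 5 contains an involution;
* `dead_seven`, `dead_15` : no covers by a pair of odd order;
* `inner_hn` : no family of commuting elements of different prime orders of `HN` is a cover.
-/

set_option autoImplicit false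
open Cfsg

namespace Cfsg.Agent.H31.RC.Spor.HN

open MulAction Subgroup Cfsg.Agent.H106.RC Cfsg.Agent.H873.RG
open Cfsg.Agent.CpAutHN Cfsg.Agent.CpAutHN.Alt Cfsg.Agent.CpAutHN.Tr Cfsg.Agent.CpAutHN.Pairs
open Cfsg.Agent.H651.HNF (DP dp7 card7 card11 card19)

/-! ### elements of order 7 -/

abbrev A5 : Type := alternatingGroup (Fin 5)

theorem A5_inv : ∀ a : A5, (a * a * a = 1 ∨ a * a * a * a * a = 1) → a ≠ 1 →
    ∃ b : A5, a * (b * (a * a) * b⁻¹) * (a * (b * (a * a) * b⁻¹)) = 1 ∧ a * (b * (a * a) * b⁻¹) ≠ 1 := by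
  decide +kernel

theorem A5_35 : ∀ a b : A5, a * a * a = 1 → a ≠ 1 → b * b * b * b * b = 1 → a * b = b * a → b = 1 := by decide +kernel

/-- an element of prime order `q ≠ 7` commuting with `x` is in `K` -/
theorem mem_K {x : Spor.HN} {K : Subgroup Spor.HN} (D : DP 7 x K) {y : Spor.HN} {q : ℕ} (hq : q = 3 ∨ q = 5)
    (hy : y ^ q = 1) (hc : y * x = x * y) : y ∈ K := by
  have := fin
  obtain ⟨i, k, hk, rfl⟩ := D.exists_mul hc
  have h1 : (x ^ i * k) ^ q = (x ^ i) ^ q * k ^ q := ((D.pow_comm i hk).symm).mul_pow q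
  rw [h1] at hy
  have h2 : (x ^ i) ^ q = (k ^ q)⁻¹ := eq_inv_of_mul_eq_one_left hy
  have h3 : (x ^ i) ^ q = 1 := by
    refine D.disj ?_ ?_
    · exact pow_mem (pow_mem (mem_zpowers x) i) q
    · rw [h2]; exact K.inv_mem (K.pow_mem hk q)
  have h4 : 7 ∣ i * q := by
    rw [← D.hx]
    apply orderOf_dvd_of_pow_eq_one
    rw [pow_mul, h3]
  have h5 : 7 ∣ i := by
    rcases hq with rfl | rfl <;> omega
  obtain ⟨j, rfl⟩ := h5
  have h6 : x ^ (7 * j) = 1 := by rw [pow_mul, ← D.hx, pow_orderOf_eq_one, one_pow]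
  rw [h6, one_mul]
  exact hk

theorem seven {x y : Spor.HN} (hx : orderOf x = 7) {q : ℕ} (hq : q = 3 ∨ q = 5) (hy : orderOf y = q)
    (hc : y * x = x * y) : ∃ t : Spor.HN, orderOf t = 2 ∧ t * x = x * t ∧
      t ∈ closure {z | ∃ c : Spor.HN, c * x = x * c ∧ z = c * y * c⁻¹} := by
  have := fin
  have hf2 : Fact (Nat.Prime 2) := ⟨Nat.prime_two⟩
  obtain ⟨x', K, D, ⟨e⟩, hall⟩ := dp7
  obtain ⟨c, hcx⟩ := isConj_iff.1 (hall x hx)
  have e1 : c⁻¹ * x * c⁻¹⁻¹ = x' := by rw [← hcx]; group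
  have hy' : (c⁻¹ * y * c⁻¹⁻¹) * x' = x' * (c⁻¹ * y * c⁻¹⁻¹) := by rw [← e1]; exact comm_conj hc c⁻¹
  have hyq : (c⁻¹ * y * c⁻¹⁻¹) ^ q = 1 := by rw [conj_pow, ← hy, pow_orderOf_eq_one, mul_one, mul_inv_cancel]
  have hk := mem_K D hq hyq hy'
  set k := c⁻¹ * y * c⁻¹⁻¹ with hkdef
  have ho : orderOf (e ⟨k, hk⟩) = q := by
    rw [MulEquiv.orderOf_eq, Subgroup.orderOf_mk, hkdef, orderOf_conj, hy]
  have ha : (e ⟨k, hk⟩) ^ q = 1 := by rw [← ho, pow_orderOf_eq_one]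
  have ha1 : e ⟨k, hk⟩ ≠ 1 := by
    intro h
    rw [h, orderOf_one] at ho
    omega
  obtain ⟨b, hb1, hb2⟩ := A5_inv (e ⟨k, hk⟩) (by
    rcases hq with rfl | rfl
    · left; rw [← ha]; simp only [pow_succ, pow_zero, one_mul]
    · right; rw [← ha]; simp only [pow_succ, pow_zero, one_mul]) ha1
  set h : K := e.symm b with hh
  have hbe : b = e h := by rw [hh, e.apply_symm_apply]
  rw [hbe] at hb1 hb2
  rw [← map_inv, ← map_mul, ← map_mul, ← map_mul, ← map_mul, ← map_mul] at hb1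
  rw [← map_inv, ← map_mul, ← map_mul, ← map_mul, ← map_mul] at hb2
  have h1 : (⟨k, hk⟩ : K) * (h * (⟨k, hk⟩ * ⟨k, hk⟩) * h⁻¹) * (⟨k, hk⟩ * (h * (⟨k, hk⟩ * ⟨k, hk⟩) * h⁻¹)) = 1 :=
    e.injective (by rw [hb1, map_one])
  have h2 : (⟨k, hk⟩ : K) * (h * (⟨k, hk⟩ * ⟨k, hk⟩) * h⁻¹) ≠ 1 := fun h0 => hb2 (by rw [h0, map_one])
  have h1' : k * ((h : Spor.HN) * (k * k) * (h : Spor.HN)⁻¹) * (k * ((h : Spor.HN) * (k * k) * (h : Spor.HN)⁻¹)) = 1 :=
    congrArg Subtype.val h1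
  have h2' : k * ((h : Spor.HN) * (k * k) * (h : Spor.HN)⁻¹) ≠ 1 := fun h0 => h2 (Subtype.ext h0)
  have hhx : (h : Spor.HN) * x' = x' * h := D.comm h h.2
  have hy2 : y = c * k * c⁻¹ := by rw [hkdef]; group
  have hd : c * (h : Spor.HN) * c⁻¹ * x = x * (c * (h : Spor.HN) * c⁻¹) := by
    rw [← hcx]; exact comm_conj hhx c
  have et : c * (k * ((h : Spor.HN) * (k * k) * (h : Spor.HN)⁻¹)) * c⁻¹ =
      y * ((c * (h : Spor.HN) * c⁻¹ * y * (c * (h : Spor.HN) * c⁻¹)⁻¹) *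
        (c * (h : Spor.HN) * c⁻¹ * y * (c * (h : Spor.HN) * c⁻¹)⁻¹)) := by rw [hy2]; group
  refine ⟨c * (k * ((h : Spor.HN) * (k * k) * (h : Spor.HN)⁻¹)) * c⁻¹, ?_, ?_, ?_⟩
  · rw [orderOf_conj]
    exact orderOf_eq_prime (by rw [pow_two, h1']) h2'
  · have h3 : k * ((h : Spor.HN) * (k * k) * (h : Spor.HN)⁻¹) ∈ K :=
      K.mul_mem hk (K.mul_mem (K.mul_mem h.2 (K.mul_mem hk hk)) (K.inv_mem h.2))
    rw [← hcx]
    exact comm_conj (D.comm _ h3) c
  · rw [et]
    refine mul_mem (subset_closure ⟨1, by rw [one_mul, mul_one], by rw [one_mul, inv_one, mul_one]⟩)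
      (mul_mem (subset_closure ⟨_, hd, rfl⟩) (subset_closure ⟨_, hd, rfl⟩))

/-- no commuting elements of orders 3, 5, 7 -/
theorem no_357 {x y z : Spor.HN} (hx : orderOf x = 3) (hy : orderOf y = 5) (hz : orderOf z = 7)
    (hxy : x * y = y * x) (hxz : x * z = z * x) (hyz : y * z = z * y) : False := by
  have := fin
  obtain ⟨z', K, D, ⟨e⟩, hall⟩ := dp7
  obtain ⟨c, hcz⟩ := isConj_iff.1 (hall z hz)
  have e1 : c⁻¹ * z * c⁻¹⁻¹ = z' := by rw [← hcz]; group
  have hx3 : (c⁻¹ * x * c⁻¹⁻¹) ^ 3 = 1 := by rw [conj_pow, ← hx, pow_orderOf_eq_one, mul_one, mul_inv_cancel]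
  have hy5 : (c⁻¹ * y * c⁻¹⁻¹) ^ 5 = 1 := by rw [conj_pow, ← hy, pow_orderOf_eq_one, mul_one, mul_inv_cancel]
  have hxK := mem_K D (Or.inl rfl) hx3 (by rw [← e1]; exact comm_conj hxz c⁻¹)
  have hyK := mem_K D (Or.inr rfl) hy5 (by rw [← e1]; exact comm_conj hyz c⁻¹)
  have hc := comm_conj hxy c⁻¹
  have hy1 : orderOf (c⁻¹ * y * c⁻¹⁻¹) = 5 := by rw [orderOf_conj, hy]
  have hx1 : orderOf (c⁻¹ * x * c⁻¹⁻¹) = 3 := by rw [orderOf_conj, hx]
  generalize c⁻¹ * x * c⁻¹⁻¹ = a at hx3 hxK hc hx1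
  generalize c⁻¹ * y * c⁻¹⁻¹ = b at hy5 hyK hc hy1
  have h1 : e ⟨a, hxK⟩ ≠ 1 := by
    intro h
    have h2 : (⟨a, hxK⟩ : K) = 1 := e.injective (by rw [h, map_one])
    have h3 : a = 1 := congrArg Subtype.val h2
    rw [h3, orderOf_one] at hx1
    norm_num at hx1
  have h2 : e ⟨b, hyK⟩ = 1 := by
    refine A5_35 (e ⟨a, hxK⟩) (e ⟨b, hyK⟩) ?_ h1 ?_ ?_
    · have h3 : (⟨a, hxK⟩ : K) ^ 3 = 1 := Subtype.ext hx3
      have h4 := congrArg e h3
      rw [map_pow, map_one] at h4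
      rw [← h4]; simp only [pow_succ, pow_zero, one_mul]
    · have h3 : (⟨b, hyK⟩ : K) ^ 5 = 1 := Subtype.ext hy5
      have h4 := congrArg e h3
      rw [map_pow, map_one] at h4
      rw [← h4]; simp only [pow_succ, pow_zero, one_mul]
    · rw [← map_mul, ← map_mul]
      congr 1
      exact Subtype.ext hc
  have h3 : (⟨b, hyK⟩ : K) = 1 := e.injective (by rw [h2, map_one])
  have h4 : b = 1 := congrArg Subtype.val h3
  rw [h4, orderOf_one] at hy1
  norm_num at hy1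

/-! ### elements of order 3 commuting with elements of order 5 -/

theorem card_cent_conj (g x : Spor.HN) :
    Nat.card (centralizer ({g * x * g⁻¹} : Set Spor.HN)) = Nat.card (centralizer ({x} : Set Spor.HN)) :=
  H502.TO.card_cent_conj g x

theorem card_X1_dvd : Nat.card (centralizer ({X1} : Set Spor.HN)) ∣ 1088640 := by
  have h1 : centralizer ({X1} : Set Spor.HN) ≤ ((centralizer ({(⟨x1, x1_mem⟩ : A12)} : Set A12))).map Φ := by
    intro y hy
    obtain ⟨f, rfl⟩ := Cfsg.Agent.H187.Ore.HNX1.exists_perm (mem_centralizer_singleton_iff.1 hy)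
    refine ⟨f, mem_centralizer_singleton_iff.2 ?_, rfl⟩
    exact Cfsg.Agent.H187.Ore.HN15.comm_of_Φ (mem_centralizer_singleton_iff.1 hy)
  refine (Subgroup.card_dvd_of_le h1).trans ?_
  rw [← Nat.card_congr ((centralizer ({(⟨x1, x1_mem⟩ : A12)} : Set A12)).equivMapOfInjective Φ Φ_inj).toEquiv]
  have h2 : (centralizer ({(⟨x1, x1_mem⟩ : A12)} : Set A12)).map (alternatingGroup (Fin 12)).subtype ≤
      centralizer ({x1} : Set (Equiv.Perm (Fin 12))) := by
    rintro _ ⟨f, hf, rfl⟩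
    exact mem_centralizer_singleton_iff.2 (congrArg Subtype.val (mem_centralizer_singleton_iff.1 hf))
  rw [Nat.card_congr ((centralizer ({(⟨x1, x1_mem⟩ : A12)} : Set A12)).equivMapOfInjective
    (alternatingGroup (Fin 12)).subtype (Subgroup.subtype_injective _)).toEquiv]
  refine (Subgroup.card_dvd_of_le h2).trans ?_
  have hc : x1.cycleType = {3} := by decide +kernel
  rw [Equiv.Perm.nat_card_centralizer, hc]
  decide +kernel

theorem card_X1 : 8 ∣ Nat.card (centralizer ({X1} : Set Spor.HN)) ∧ ¬ 5 * 5 ∣ Nat.card (centralizer ({X1} : Set Spor.HN)) := by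
  have := fin
  refine ⟨?_, ?_⟩
  · exact (show 8 ∣ 544320 by norm_num).trans (Cfsg.Agent.H187.Ore.HNX1.dvd_card.trans (Subgroup.card_subgroup_dvd_card _))
  · intro h
    have h2 := h.trans card_X1_dvd
    norm_num at h2

theorem card_X3 : 8 ∣ Nat.card (centralizer ({X3} : Set Spor.HN)) ∧ ¬ 5 * 5 ∣ Nat.card (centralizer ({X3} : Set Spor.HN)) := by
  have h1 : Nat.card (centralizer ({X3} : Set Spor.HN)) =
      Nat.card Cfsg.Agent.H478.HNThree.Ob * 360 := Cfsg.Agent.H991.SN.HN.card_MM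
  rw [h1]
  refine ⟨(show 8 ∣ 360 by norm_num).trans (Nat.dvd_mul_left _ _), fun h => ?_⟩
  have h2 := h.trans (Nat.mul_dvd_mul_right Cfsg.Agent.H187.Ore.HN15.card_Ob 360)
  norm_num at h2

theorem card_three {x y : Spor.HN} (hx : orderOf x = 3) (hy : orderOf y = 5) (hc : x * y = y * x) :
    8 ∣ Nat.card (centralizer ({x} : Set Spor.HN)) ∧ ¬ 5 * 5 ∣ Nat.card (centralizer ({x} : Set Spor.HN)) := by
  rcases Cfsg.Agent.H187.Ore.HN15.types hx hy hc with ⟨c, h⟩ | ⟨c, h⟩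
  · rw [← card_cent_conj c x, h]; exact card_X1
  · rw [← card_cent_conj c x, h]; exact card_X3

/-! ### the theorem -/

theorem prime_cases {q : ℕ} (hq : q.Prime) (hd : q ∣ 273030912000000) :
    q = 2 ∨ q = 3 ∨ q = 5 ∨ q = 7 ∨ q = 11 ∨ q = 19 := by
  have h2 : 273030912000000 = 2 ^ 14 * 3 ^ 6 * 5 ^ 6 * 7 * 11 * 19 := by norm_num
  rw [h2] at hd
  have hp : ∀ {p : ℕ}, p.Prime → q ∣ p → q = p := fun hp h => (Nat.prime_dvd_prime_iff_eq hq hp).1 h
  rcases hq.dvd_mul.1 hd with hd | hd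
  · rcases hq.dvd_mul.1 hd with hd | hd
    · rcases hq.dvd_mul.1 hd with hd | hd
      · rcases hq.dvd_mul.1 hd with hd | hd
        · rcases hq.dvd_mul.1 hd with hd | hd
          · exact Or.inl (hp (by norm_num) (hq.dvd_of_dvd_pow hd))
          · exact Or.inr (Or.inl (hp (by norm_num) (hq.dvd_of_dvd_pow hd)))
        · exact Or.inr (Or.inr (Or.inl (hp (by norm_num) (hq.dvd_of_dvd_pow hd))))
      · exact Or.inr (Or.inr (Or.inr (Or.inl (hp (by norm_num) hd))))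
    · exact Or.inr (Or.inr (Or.inr (Or.inr (Or.inl (hp (by norm_num) hd)))))
  · exact Or.inr (Or.inr (Or.inr (Or.inr (Or.inr (hp (by norm_num) hd)))))

/-- commuting elements of different odd prime orders -/
theorem pair_orders {x y : Spor.HN} {p q : ℕ} (hp : p.Prime) (hq : q.Prime) (hpq : p ≠ q) (hp2 : p ≠ 2) (hq2 : q ≠ 2)
    (hx : orderOf x = p) (hy : orderOf y = q) (hxy : x * y = y * x) :
    (p = 3 ∨ p = 5 ∨ p = 7) ∧ (q = 3 ∨ q = 5 ∨ q = 7) := by
  have := fin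
  have hpd : p ∣ 273030912000000 := by
    rw [← H569.HNThree.card_G, ← hx]; exact orderOf_dvd_natCard x
  have hqd : q ∣ 273030912000000 := by
    rw [← H569.HNThree.card_G, ← hy]; exact orderOf_dvd_natCard y
  have h1 := dvd_cent hy hxy.symm
  have h2 := dvd_cent hx hxy
  rcases prime_cases hp hpd with rfl | rfl | rfl | rfl | rfl | rfl <;>
    rcases prime_cases hq hqd with rfl | rfl | rfl | rfl | rfl | rfl <;>
    first
      | exact absurd rfl hp2
      | exact absurd rfl hq2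
      | exact absurd rfl hpq
      | (refine ⟨?_, ?_⟩ <;> norm_num; done)
      | (exfalso; rw [card7 x hx] at h1; revert h1; norm_num)
      | (exfalso; rw [card7 y hy] at h2; revert h2; norm_num)
      | (exfalso; rw [card11 x hx] at h1; revert h1; norm_num)
      | (exfalso; rw [card11 y hy] at h2; revert h2; norm_num)
      | (exfalso; rw [card19 x hx] at h1; revert h1; norm_num)
      | (exfalso; rw [card19 y hy] at h2; revert h2; norm_num)

section cover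

variable {Ω : Type} [MulAction Spor.HN Ω]

theorem dead_pair_two (hIH : IHx (Nat.card Spor.HN)) (hF : ∀ t : Spor.HN, t ≠ 1 → ∃ ω : Ω, t • ω ≠ ω) {z t : Spor.HN}
    {p : ℕ} (hp : p.Prime) (hp2 : p ≠ 2) (hz : orderOf z = p) (ht : orderOf t = 2) (h1 : t * z = z * t)
    (h2 : ∀ ω : Ω, z • ω = ω ∨ t • ω = ω) : False := by
  refine dead_inv hIH hF (pf_two hp Nat.prime_two hp2 hz ht h1.symm) (cov_two h2) ht ?_ ?_
  · rintro (_ | _)
    · rfl
    · exact h1.symm
  · rintro (_ | _) h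
    · rfl
    · exact absurd h hp2

/-- odd pairs -/
theorem dead_pair (hIH : IHx (Nat.card Spor.HN)) (hF : ∀ t : Spor.HN, t ≠ 1 → ∃ ω : Ω, t • ω ≠ ω) {x y : Spor.HN}
    {p q : ℕ} (hpq : p ≠ q) (hp : p = 3 ∨ p = 5 ∨ p = 7) (hq : q = 3 ∨ q = 5 ∨ q = 7) (hx : orderOf x = p)
    (hy : orderOf y = q) (hxy : x * y = y * x) (hc : ∀ ω : Ω, x • ω = ω ∨ y • ω = ω) : False := by
  have := fin
  -- 7
  have k7 : ∀ {x y : Spor.HN} {q : ℕ}, orderOf x = 7 → orderOf y = q → (q = 3 ∨ q = 5) → x * y = y * x →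
      (∀ ω : Ω, x • ω = ω ∨ y • ω = ω) → False := by
    intro x y q hx hy hq hxy hc
    obtain ⟨t, ht, htx, hcl⟩ := seven hx hq hy hxy.symm
    exact dead_pair_two hIH hF (by norm_num) (by norm_num) hx ht htx (Cfsg.Agent.H867.RC.pair_mv hc hcl)
  -- 3, 5
  have k35 : ∀ {x y : Spor.HN}, orderOf x = 3 → orderOf y = 5 → x * y = y * x →
      (∀ ω : Ω, x • ω = ω ∨ y • ω = ω) → False := by
    intro x y hx hy hxy hc
    obtain ⟨h8, h25⟩ := card_three hx hy hxy
    obtain ⟨t, ht, htx, h1⟩ := pair_even (x := x) (y := y) hxy.symm 3 Nat.prime_five hy h25 h8 (by norm_num) (by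
      intro t ht h1 h2
      refine dead_inv hIH hF (pf_two Nat.prime_three Nat.prime_five (by norm_num) hx hy hxy) (cov_two hc) ht ?_ ?_
      · rintro (_ | _)
        · exact h2.symm
        · exact h1.symm
      · rintro (_ | _) h
        · exact absurd h (by norm_num)
        · exact absurd h (by norm_num)) hc
    exact dead_pair_two hIH hF Nat.prime_three (by norm_num) hx ht htx h1
  rcases hp with rfl | rfl | rfl <;> rcases hq with rfl | rfl | rfl
  · exact hpq rfl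
  · exact k35 hx hy hxy hc
  · exact k7 hy hx (Or.inl rfl) hxy.symm fun ω => (hc ω).symm
  · exact k35 hy hx hxy.symm fun ω => (hc ω).symm
  · exact hpq rfl
  · exact k7 hy hx (Or.inr rfl) hxy.symm fun ω => (hc ω).symm
  · exact k7 hx hy (Or.inl rfl) hxy hc
  · exact k7 hx hy (Or.inr rfl) hxy hc
  · exact hpq rfl

/-- **no cover by inner elements** -/
theorem inner_hn (hIH : IHx (Nat.card Spor.HN)) [Nonempty Ω] (hF : ∀ t : Spor.HN, t ≠ 1 → ∃ ω : Ω, t • ω ≠ ω)
    {ι : Type} [Finite ι] {x : ι → Spor.HN} {r : ι → ℕ} (hx : PF x r) (hc : Cov Ω x) : False := by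
  have := fin
  -- no involution
  have h2 : ∀ i, r i ≠ 2 := by
    intro i hi
    refine dead_inv hIH hF hx hc (t := x i) (by rw [orderOf_of_pf hx, hi]) (fun j => hx.comm _ _) ?_
    intro j hj
    rw [hx.inj (hj.trans hi.symm)]
  obtain ⟨ω⟩ := (inferInstance : Nonempty Ω)
  obtain ⟨i, -⟩ := hc ω
  -- a second member
  obtain ⟨ω', hω'⟩ := hF (x i) (hx.ne i)
  obtain ⟨j, hj⟩ := hc ω'
  have hji : j ≠ i := by
    rintro rfl
    exact hω' hj
  have hpo : ∀ {i j : ι}, j ≠ i → (r i = 3 ∨ r i = 5 ∨ r i = 7) ∧ (r j = 3 ∨ r j = 5 ∨ r j = 7) :=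
    fun {i j} hji => pair_orders (hx.prime i) (hx.prime j) (fun h => hji (hx.inj h).symm) (h2 i) (h2 j)
      (orderOf_of_pf hx i) (orderOf_of_pf hx j) (hx.comm i j)
  have hrn : ∀ {i j : ι}, j ≠ i → r i ≠ r j := fun {i j} hji h => hji (hx.inj h).symm
  -- only two members
  have htwo : ∀ k, k = i ∨ k = j := by
    intro k
    by_contra hk
    push Not at hk
    obtain ⟨h1, h3⟩ := hpo hji
    obtain ⟨-, h4⟩ := hpo hk.1
    have h5 := hrn hji
    have h6 := hrn hk.1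
    have h7 := hrn hk.2
    have key : ∀ {a b c : ι}, r a = 3 → r b = 5 → r c = 7 → False := fun {a b c} h3 h5 h7 =>
      no_357 ((orderOf_of_pf hx a).trans h3) ((orderOf_of_pf hx b).trans h5) ((orderOf_of_pf hx c).trans h7)
        (hx.comm a b) (hx.comm a c) (hx.comm b c)
    rcases h1 with h1 | h1 | h1 <;> rcases h3 with h3 | h3 | h3 <;> rcases h4 with h4 | h4 | h4 <;>
      first
        | exact h5 (h1.trans h3.symm)
        | exact h6 (h1.trans h4.symm)
        | exact h7 (h3.trans h4.symm)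
        | exact key h1 h3 h4
        | exact key h1 h4 h3
        | exact key h3 h1 h4
        | exact key h3 h4 h1
        | exact key h4 h1 h3
        | exact key h4 h3 h1
  refine dead_pair hIH hF (hrn hji) (hpo hji).1 (hpo hji).2 (orderOf_of_pf hx i) (orderOf_of_pf hx j) (hx.comm i j) ?_
  intro ω
  obtain ⟨k, hk⟩ := hc ω
  rcases htwo k with rfl | rfl
  · exact Or.inl hk
  · exact Or.inr hk

end cover

end Cfsg.Agent.H31.RC.Spor.HN
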