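import Cfsg.Agent.H31.RC.Spor.HNb
import Cfsg.Agent.H287.HNc
import Cfsg.Agent.H748.SK.HNTwist
import Cfsg.Agent.H291.Parity

/-!
# S3509, the Harada-Norton group: covers with an outer involution, the rules (helper31)

`Fr j φ` : `j : HN → G` injective, `φ : G → Aut(HN)` injective, `g * j u * g⁻¹ = j (φ g u)`.

* `Fr.large` : the large extraspecial group of `G`;
* `kill2A` : the M-rule for an involution `s ~ Q 0` commuting with the family;
* `kill_ts` : no cover `{t, s}`, `t` an outer, `s` an inner involution;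
* `Large.axb` : `h` of odd order trivial on `C_Q(t)` is trivial on `Q`;
* `kill_th` : no cover `{t, h}` if an involution of `HN` commutes with `t` and `h`.
-/

set_option autoImplicit false
open Cfsg

namespace Cfsg.Agent.H31.RC.Spor.HN

open MulAction Subgroup Cfsg.Agent.H106.RC Cfsg.Agent.H873.RG Cfsg.Agent.H380.RC
open Cfsg.Agent.HN Cfsg.Agent.HN.Pres Cfsg.Agent.HN.XWords Cfsg.Agent.HN.XStruct Cfsg.Agent.KFacts.HN
open Cfsg.Agent.HN.H0Basic Cfsg.Agent.Co2Type.Quad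

/-- the frame -/
structure Fr {G : Type} [Group G] (j : Spor.HN →* G) (φ : G →* MulAut Spor.HN) : Prop where
  inj : Function.Injective j
  act : ∀ g u, g * j u * g⁻¹ = j (φ g u)
  phi : Function.Injective φ

variable {G : Type} [Group G] {j : Spor.HN →* G} {φ : G →* MulAut Spor.HN}

theorem Fr.phi_j (F : Fr j φ) (u : Spor.HN) : φ (j u) = MulAut.conj u := by
  ext v
  apply F.inj
  rw [← F.act, MulAut.conj_apply, map_mul, map_mul, map_inv]

theorem Fr.eq_of_conj (F : Fr j φ) {g : G} {c : Spor.HN} (h : φ g = MulAut.conj c) : g = j c :=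
  F.phi (by rw [h, F.phi_j])

theorem Fr.comm_iff (F : Fr j φ) {g : G} {u : Spor.HN} : g * j u = j u * g ↔ φ g u = u := by
  constructor
  · intro h
    apply F.inj
    rw [← F.act, h, mul_inv_cancel_right]
  · intro h
    have h1 := F.act g u
    rw [h] at h1
    exact mul_inv_eq_iff_eq_mul.1 h1

theorem Fr.sq (_ : Fr j φ) {t : G} (ht : t * t = 1) : φ t * φ t = 1 := by rw [← map_mul, ht, map_one]

/-- the large extraspecial group -/
theorem Fr.large (F : Fr j φ) : Large (RS.map j) (j W0) := by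
  have L := Cfsg.Agent.KFacts.HN.large
  refine ⟨⟨W0, L.z_mem, rfl⟩, ?_, ?_, ?_, ?_, ?_, ?_, ?_, ?_⟩
  · intro h
    exact L.z_ne (F.inj (by rw [h, map_one]))
  · rw [← map_mul, L.z_sq, map_one]
  · rintro _ ⟨x, hx, rfl⟩
    rw [← map_mul, L.comm_z x hx, map_mul]
  · rintro g hg _ ⟨x, hx, rfl⟩
    rw [F.act]
    exact ⟨_, H287.OutHN.map_RS (F.comm_iff.1 hg) hx, rfl⟩
  · rintro _ ⟨x, hx, rfl⟩
    rcases L.sq x hx with h | h
    · left; rw [← map_mul, h, map_one]
    · right; rw [← map_mul, h]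
  · rintro _ ⟨x, hx, rfl⟩ _ ⟨y, hy, rfl⟩
    rcases L.comm x hx y hy with h | h
    · left; rw [← map_mul, h, map_mul]
    · right; rw [← map_mul, h, map_mul, map_mul]
  · rintro _ ⟨x, hx, rfl⟩ h
    rcases L.cent x hx (fun y hy => F.inj (by rw [map_mul, map_mul]; exact h _ ⟨y, hy, rfl⟩)) with h | h
    · left; rw [h, map_one]
    · right; rw [h]
  · intro g hg h
    obtain ⟨y, hy, he⟩ := aut0 (F.comm_iff.1 hg) (fun x hx => Or.inl (F.comm_iff.1 (h _ ⟨x, hx, rfl⟩)))
    rw [F.eq_of_conj he]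
    exact ⟨y, hy, rfl⟩

/-- **`A × B`-lemma**: `h` trivial on `C_Q(t)` is trivial on `Q` -/
theorem Large.axb {Q : Subgroup G} {z : G} (L : Large Q z) {t h : G} (htt : t * t = 1) (ht : t * z = z * t)
    (hh : h * z = z * h) (hth : t * h = h * t) {r : ℕ} (hr : Odd r) (hhr : h ^ r = 1)
    (hfix : ∀ u ∈ Q, u * t = t * u → u * h = h * u) : ∀ u ∈ Q, u * h = h * u := by
  -- `v ∈ Q`, `h v h⁻¹ = v w`, `w` commuting with `h`
  have key : ∀ v w : G, h * v * h⁻¹ = v * w → w * h = h * w → w ^ 4 = 1 → v * h = h * v := by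
    intro v w h1 h2 h4
    have h3 : ∀ k : ℕ, h ^ k * v * (h ^ k)⁻¹ = v * w ^ k := by
      intro k
      induction k with
      | zero => simp
      | succ k ih =>
        have h5 : h * w ^ k * h⁻¹ = w ^ k := by
          have h6 : w ^ k * h = h * w ^ k := ((show Commute w h from h2).pow_left k).eq
          rw [← h6, mul_inv_cancel_right]
        calc h ^ (k + 1) * v * (h ^ (k + 1))⁻¹ = h * (h ^ k * v * (h ^ k)⁻¹) * h⁻¹ := by rw [pow_succ']; group
          _ = (h * v * h⁻¹) * (h * w ^ k * h⁻¹) := by rw [ih]; group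
          _ = v * w ^ (k + 1) := by rw [h1, h5, pow_succ', mul_assoc]
    have h5 := h3 r
    rw [hhr, one_mul, inv_one, mul_one] at h5
    have h6 : w ^ r = 1 := (mul_eq_left.1 h5.symm)
    have h7 : orderOf w ∣ Nat.gcd 4 r := Nat.dvd_gcd (orderOf_dvd_of_pow_eq_one h4) (orderOf_dvd_of_pow_eq_one h6)
    have h8 : Nat.gcd 4 r = 1 := by
      have : Nat.Coprime 2 r := Nat.coprime_two_left.2 hr
      exact Nat.Coprime.pow_left 2 this
    rw [h8] at h7
    have h9 : w = 1 := orderOf_eq_one_iff.1 (Nat.dvd_one.1 h7)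
    rw [h9, mul_one] at h1
    exact (mul_inv_eq_iff_eq_mul.1 h1).symm
  have hQh : ∀ v ∈ Q, h * v * h⁻¹ ∈ Q := fun v hv => L.conj_mem h hh v hv
  have hQt : ∀ v ∈ Q, t * v * t⁻¹ ∈ Q := fun v hv => L.conj_mem t ht v hv
  have tinv : t⁻¹ = t := inv_eq_of_mul_eq_one_left htt
  have hwQ : ∀ v ∈ Q, v⁻¹ * (h * v * h⁻¹) ∈ Q := fun v hv => Q.mul_mem (Q.inv_mem hv) (hQh v hv)
  have hhi : h⁻¹ * z = z * h⁻¹ := by
    rw [inv_mul_eq_iff_eq_mul, ← mul_assoc, hh, mul_inv_cancel_right]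
  have hhz : h * z * h⁻¹ = z := by rw [hh, mul_inv_cancel_right]
  have htz : t * z * t⁻¹ = z := by rw [ht, mul_inv_cancel_right]
  -- (1)
  have step1 : ∀ v ∈ Q, (t * v * t⁻¹ = v ∨ t * v * t⁻¹ = v * z) → v * h = h * v := by
    rintro v hv (h1 | h1)
    · exact hfix v hv (mul_inv_eq_iff_eq_mul.1 h1).symm
    · refine key v (v⁻¹ * (h * v * h⁻¹)) (by group) ?_ (Large.pow_four L (hwQ v hv))
      apply hfix _ (hwQ v hv)
      have h2 : t * (v⁻¹ * (h * v * h⁻¹)) * t⁻¹ = v⁻¹ * (h * v * h⁻¹) := by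
        have e1 : t * (v⁻¹ * (h * v * h⁻¹)) * t⁻¹ = (t * v * t⁻¹)⁻¹ * (t * h * v * h⁻¹ * t⁻¹) := by group
        have e2 : t * h * v * h⁻¹ * t⁻¹ = h * (t * v * t⁻¹) * h⁻¹ := by
          have e3 : h⁻¹ * t⁻¹ = t⁻¹ * h⁻¹ := by rw [← mul_inv_rev, hth, mul_inv_rev]
          calc t * h * v * h⁻¹ * t⁻¹ = h * t * v * (h⁻¹ * t⁻¹) := by rw [hth]; group
            _ = h * (t * v * t⁻¹) * h⁻¹ := by rw [e3]; group
        rw [e1, e2, h1]
        calc (v * z)⁻¹ * (h * (v * z) * h⁻¹) = z⁻¹ * (v⁻¹ * (h * v * h⁻¹)) * (h * z * h⁻¹) := by group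
          _ = z⁻¹ * ((v⁻¹ * (h * v * h⁻¹)) * z) := by rw [hhz]; group
          _ = v⁻¹ * (h * v * h⁻¹) := by rw [L.comm_z _ (hwQ v hv), inv_mul_cancel_left]
      exact (mul_inv_eq_iff_eq_mul.1 h2).symm
  intro v hv
  set n : G := v * (t * v * t⁻¹) with hn
  have hnQ : n ∈ Q := Q.mul_mem hv (hQt v hv)
  have hzz : z * z = 1 := L.z_sq
  have htn : t * n * t⁻¹ = n ∨ t * n * t⁻¹ = n * z := by
    have e1 : t * n * t⁻¹ = (t * v * t⁻¹) * v := by
      rw [hn]
      calc t * (v * (t * v * t⁻¹)) * t⁻¹ = (t * v * t⁻¹) * ((t * t) * v * (t * t)⁻¹) := by group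
        _ = (t * v * t⁻¹) * v := by rw [htt]; group
    rw [e1]
    rcases L.comm _ (hQt v hv) v hv with h1 | h1
    · exact Or.inl h1
    · exact Or.inr h1
  have hnh := step1 n hnQ htn
  set w : G := v⁻¹ * (h * v * h⁻¹) with hw
  have hvw : h * v * h⁻¹ = v * w := by rw [hw]; group
  have hwQ' : w ∈ Q := hwQ v hv
  -- `w (t v t⁻¹) (t w t⁻¹) = t v t⁻¹`
  have e3 : w * (t * v * t⁻¹) * (t * w * t⁻¹) = t * v * t⁻¹ := by
    have e4 : h * n * h⁻¹ = n := by rw [← hnh, mul_inv_cancel_right]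
    have e5 : h * n * h⁻¹ = (h * v * h⁻¹) * (t * (h * v * h⁻¹) * t⁻¹) := by
      have e6 : h * t = t * h := hth.symm
      have e7 : t⁻¹ * h⁻¹ = h⁻¹ * t⁻¹ := by rw [← mul_inv_rev, e6, mul_inv_rev]
      rw [hn]
      calc h * (v * (t * v * t⁻¹)) * h⁻¹ = h * v * h⁻¹ * (h * t) * v * (t⁻¹ * h⁻¹) := by group
        _ = h * v * h⁻¹ * (t * h) * v * (h⁻¹ * t⁻¹) := by rw [e6, e7]
        _ = _ := by group
    rw [e4, hvw, hn] at e5
    have e8 : v * (t * v * t⁻¹) = v * (w * (t * v * t⁻¹) * (t * w * t⁻¹)) := by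
      rw [e5]; group
    exact (mul_left_cancel e8).symm
  have htw : t * w * t⁻¹ = w ∨ t * w * t⁻¹ = w * z := by
    set b : G := t * v * t⁻¹ with hb
    have hbQ : b ∈ Q := hQt v hv
    have e4 : t * w * t⁻¹ = b⁻¹ * w⁻¹ * b := by
      calc t * w * t⁻¹ = b⁻¹ * w⁻¹ * (w * b * (t * w * t⁻¹)) := by group
        _ = b⁻¹ * w⁻¹ * b := by rw [e3]
    have hw' : w⁻¹ = w ∨ w⁻¹ = w * z := by
      rcases L.sq w hwQ' with h1 | h1
      · left; exact inv_eq_of_mul_eq_one_left h1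
      · right
        apply inv_eq_of_mul_eq_one_left
        calc w * z * w = w * (w * z) := by rw [mul_assoc, ← L.comm_z w hwQ']
          _ = w * w * z := by group
          _ = 1 := by rw [h1, hzz]
    have hb' : b⁻¹ * w⁻¹ * b = w⁻¹ ∨ b⁻¹ * w⁻¹ * b = w⁻¹ * z := by
      rcases L.comm _ (Q.inv_mem hwQ') b hbQ with h1 | h1
      · left; rw [mul_assoc, h1, inv_mul_cancel_left]
      · right; rw [mul_assoc, h1]; group
    rw [e4]
    rcases hb' with h1 | h1 <;> rcases hw' with h2 | h2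
    · left; rw [h1, h2]
    · right; rw [h1, h2]
    · right; rw [h1, h2]
    · left; rw [h1, h2, mul_assoc, hzz, mul_one]
  exact key v w hvw (step1 w hwQ' htw) (Large.pow_four L hwQ')

/-! ### kill rules -/

section kill

variable {Ω : Type} [MulAction G Ω]

theorem rc_HS (hIH : IHx (Nat.card Spor.HN)) : RC Cfsg.Spor.HS := by
  have hfinHS : Finite Cfsg.Spor.HS := Nat.finite_of_card_ne_zero (by rw [CTwoTab.HN.card_HS]; norm_num)
  refine hIH Cfsg.Spor.HS nsa_HS ?_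
  rw [CTwoTab.HN.card_HS, Classes.card_HN]
  norm_num

/-- **M-rule**, the class of `Q 0` -/
theorem kill2A0 (F : Fr j φ) (hRC : RC Cfsg.Spor.HS) {ι : Type} [Finite ι] {x : ι → G} {r : ι → ℕ} (h : PF x r)
    (hcomm : ∀ i, x i * j (Q 0) = j (Q 0) * x i) (hout : ∀ i, r i = 2 → x i ∉ j.range)
    (hin : ∀ i, r i ≠ 2 → x i ∈ j.range) (hcov : ∀ ω : Ω, j (Q 0) • ω = ω ∨ ∃ i, x i • ω = ω) (ω : Ω) :
    j (Q 0) • ω = ω := by
  have := fin
  by_contra hω
  have hfinHS : Finite Cfsg.Spor.HS := Nat.finite_of_card_ne_zero (by rw [CTwoTab.HN.card_HS]; norm_num)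
  obtain ⟨e⟩ := CTwoTab.HN.quo_equiv
  set N := CTwoTab.HN.N with hNdef
  let eM : N ≃* (N.map j) := N.equivMapOfInjective j F.inj
  let π : ↥(N.map j) →* Cfsg.Spor.HS :=
    ((e.toMonoidHom.comp (QuotientGroup.mk' (center HS100.K))).comp CTwoTab.HN.eN.symm.toMonoidHom).comp
      eM.symm.toMonoidHom
  have hπ : Function.Surjective π :=
    (e.surjective.comp ((QuotientGroup.mk'_surjective _).comp CTwoTab.HN.eN.symm.surjective)).comp eM.symm.surjective
  have hker : π.ker ≤ center ↥(N.map j) := by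
    intro m hm
    rw [MonoidHom.mem_ker] at hm
    have h1 : (QuotientGroup.mk' (center HS100.K)) (CTwoTab.HN.eN.symm (eM.symm m)) = 1 := by
      apply e.injective
      rw [map_one]
      exact hm
    have h2 : CTwoTab.HN.eN.symm (eM.symm m) ∈ center HS100.K := (QuotientGroup.eq_one_iff _).1 h1
    rw [mem_center_iff] at h2 ⊢
    intro n
    apply eM.symm.injective
    apply CTwoTab.HN.eN.symm.injective
    rw [map_mul, map_mul, map_mul, map_mul]
    exact h2 _
  have hperf : ⁅N.map j, N.map j⁆ = N.map j := by rw [← Subgroup.map_commutator, hNdef, N_perf]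
  have hφ : ∀ i, φ (x i) (Q 0) = Q 0 := fun i => F.comm_iff.1 (hcomm i)
  have hmap : ∀ (α : MulAut Spor.HN), α (Q 0) = Q 0 → ∀ m ∈ N, α m ∈ N := by
    intro α hα m hm
    refine H287.OutHN.map_N ?_ hm
    rw [← Q0_eq]; exact hα
  have hnorm : ∀ i, x i ∈ normalizer ((N.map j : Subgroup G) : Set G) := by
    intro i
    have hinv : φ (x i)⁻¹ (Q 0) = Q 0 := by
      rw [map_inv, MulAut.inv_apply, MulEquiv.symm_apply_eq, hφ i]
    rw [mem_normalizer_iff]
    intro m
    constructor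
    · rintro ⟨k, hk, rfl⟩
      rw [F.act]
      exact ⟨_, hmap _ (hφ i) k hk, rfl⟩
    · rintro ⟨k, hk, hkm⟩
      have h1 := F.act (x i)⁻¹ k
      rw [hkm, inv_inv] at h1
      have h2 : (x i)⁻¹ * (x i * m * (x i)⁻¹) * x i = m := by group
      rw [h2] at h1
      rw [h1]
      exact ⟨_, hmap _ hinv k hk, rfl⟩
  have hcovM : ∀ m ∈ N.map j, ∃ i, x i • m • ω = m • ω := by
    rintro _ ⟨m, hm, rfl⟩
    refine (hcov (j m • ω)).resolve_left fun h1 => hω ?_
    have h2 : m * Q 0 = Q 0 * m := mem_centralizer_singleton_iff.1 (CTwoTab.HN.N_le hm)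
    rw [smul_smul, ← map_mul, ← h2, map_mul, mul_smul] at h1
    exact smul_left_cancel _ h1
  rcases mrule_RC CTwoTab.HN.simple_HS nsa_HS.ncomm x r h.prime h.inj h.pow h.comm (N.map j) hperf π hπ hker hnorm
    hRC ω hcovM with h1 | ⟨i, h1, -⟩
  · exact hω (h1 ⟨Q 0, Q0_mem, rfl⟩)
  · by_cases hi : r i = 2
    · apply hout i hi
      have h2 : φ (x i) * φ (x i) = 1 := by
        rw [← map_mul, ← pow_two, ← hi, h.pow, map_one]
      obtain ⟨g, hg⟩ := H287.OutHN.inner_of_fix h2 (fun m hm => F.comm_iff.1 (h1 _ ⟨m, hm, rfl⟩))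
      exact ⟨g, (F.eq_of_conj hg).symm⟩
    · obtain ⟨u, hu⟩ := hin i hi
      refine not_cent (x := u) ?_ (h.prime i) hi ?_ ?_ ?_
      · apply F.inj
        rw [map_mul, map_mul, hu]; exact hcomm i
      · apply F.inj
        rw [map_pow, hu, h.pow, map_one]
      · rintro rfl
        exact h.ne i (by rw [← hu, map_one])
      · intro m hm
        apply F.inj
        rw [map_mul, map_mul, hu]
        exact h1 _ ⟨m, hm, rfl⟩

/-- **M-rule** -/
theorem kill2A (F : Fr j φ) (hRC : RC Cfsg.Spor.HS) {ι : Type} [Finite ι] {x : ι → G} {r : ι → ℕ} (h : PF x r)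
    {s c : Spor.HN} (hs : c * Q 0 * c⁻¹ = s)
    (hcomm : ∀ i, x i * j s = j s * x i) (hout : ∀ i, r i = 2 → x i ∉ j.range)
    (hin : ∀ i, r i ≠ 2 → x i ∈ j.range) (hcov : ∀ ω : Ω, j s • ω = ω ∨ ∃ i, x i • ω = ω) (ω : Ω) :
    j s • ω = ω := by
  have e0 : (j c)⁻¹ * j s * (j c)⁻¹⁻¹ = j (Q 0) := by rw [← hs, map_mul, map_mul, map_inv]; group
  have hmem : ∀ g : G, (j c)⁻¹ * g * (j c)⁻¹⁻¹ ∈ j.range ↔ g ∈ j.range := by
    intro g
    have hc : j c ∈ j.range := ⟨c, rfl⟩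
    rw [mul_mem_cancel_right (inv_mem (inv_mem hc)), mul_mem_cancel_left (inv_mem hc)]
  have h1 := kill2A0 (Ω := Ω) F hRC (pf_conj h (j c)⁻¹) (by
      intro i
      rw [← e0]
      exact comm_conj (hcomm i) _) (fun i hi => by rw [hmem]; exact hout i hi) (fun i hi => by rw [hmem]; exact hin i hi) (by
      intro ω
      rcases hcov (j c • ω) with h2 | ⟨i, h2⟩
      · left
        rw [← e0, inv_inv, mul_smul, mul_smul, h2, inv_smul_smul]
      · right
        refine ⟨i, ?_⟩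
        show ((j c)⁻¹ * x i * (j c)⁻¹⁻¹) • ω = ω
        rw [inv_inv, mul_smul, mul_smul, h2, inv_smul_smul]) ((j c)⁻¹ • ω)
  rw [← e0, inv_inv, mul_smul, mul_smul, smul_inv_smul] at h1
  exact smul_left_cancel _ h1

theorem pf_one {t : G} {p : ℕ} (hp : p.Prime) (ht : t ^ p = 1) (ht1 : t ≠ 1) : PF (fun _ : Unit => t) (fun _ => p) :=
  ⟨fun _ => hp, fun _ _ _ => rfl, fun _ => ht, fun _ => ht1, fun _ _ => rfl⟩

/-- an involution commuting with `t`: no cover `{t, s}` -/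
theorem kill_ts (F : Fr j φ) (hRC : RC Cfsg.Spor.HS) (hF : ∀ u : Spor.HN, u ≠ 1 → ∃ ω : Ω, j u • ω ≠ ω) {t : G}
    (htt : t * t = 1) (hto : t ∉ j.range) {s : Spor.HN} (hs : orderOf s = 2) (hts : t * j s = j s * t)
    (hcov : ∀ ω : Ω, t • ω = ω ∨ j s • ω = ω) : False := by
  have ht1 : t ≠ 1 := by rintro rfl; exact hto (one_mem _)
  have hs2 : s * s = 1 := by rw [← pow_two, ← hs, pow_orderOf_eq_one]
  have hs1 : s ≠ 1 := fun h => by rw [h, orderOf_one] at hs; norm_num at hs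
  obtain ⟨ω, hω⟩ := hF s hs1
  apply hω
  rcases OddHalf.D4.Spor.HN.inv_cases hs2 hs1 with ⟨g, hg⟩ | ⟨g, hg⟩
  · have L := Large.conj F.large (j g)
    have e : j g * j W0 * (j g)⁻¹ = j s := by rw [← map_inv, ← map_mul, ← map_mul, hg]
    rw [e] at L
    have hne : ∃ u ∈ (RS.map j).map (MulAut.conj (j g)).toMonoidHom, u * t ≠ t * u := by
      by_contra hno
      push Not at hno
      obtain ⟨_, ⟨v, -, rfl⟩, hv⟩ := L.self t hts (fun u hu => (hno u hu).symm)
      exact hto ⟨g * v * g⁻¹, by rw [map_mul, map_mul, map_inv]; exact hv⟩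
    exact lr_one (x := t) (y := j s) (fun ω => (hcov ω).symm) L.comm_z (Large.mem_cmm L hts hne) ω
  · refine kill2A F hRC (pf_one Nat.prime_two (by rw [pow_two, htt]) ht1) hg (fun _ => hts) (fun _ _ => hto)
      (fun _ h => absurd rfl h) ?_ ω
    intro ω
    rcases hcov ω with h | h
    · exact Or.inr ⟨(), h⟩
    · exact Or.inl h

/-- an involution `s` commuting with `t` and `h`: no cover `{t, h}` -/
theorem kill_th (F : Fr j φ) (hRC : RC Cfsg.Spor.HS) (hF : ∀ u : Spor.HN, u ≠ 1 → ∃ ω : Ω, j u • ω ≠ ω) {t : G}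
    (htt : t * t = 1) (hto : t ∉ j.range) {s : Spor.HN} (hs : orderOf s = 2) (hts : t * j s = j s * t)
    {h : Spor.HN} {p : ℕ} (hp : p.Prime) (hp2 : p ≠ 2) (hh : orderOf h = p) (hth : t * j h = j h * t)
    (hhs : h * s = s * h) (hcov : ∀ ω : Ω, t • ω = ω ∨ j h • ω = ω) : False := by
  have := fin
  have ht1 : t ≠ 1 := by rintro rfl; exact hto (one_mem _)
  have hot : orderOf t = 2 := orderOf_eq_prime (by rw [pow_two, htt]) ht1
  have hjh : orderOf (j h) = p := by rw [orderOf_injective j F.inj, hh]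
  have hs2 : s * s = 1 := by rw [← pow_two, ← hs, pow_orderOf_eq_one]
  have hs1 : s ≠ 1 := fun h => by rw [h, orderOf_one] at hs; norm_num at hs
  have hh1 : h ≠ 1 := by rintro rfl; rw [orderOf_one] at hh; exact hp.one_lt.ne hh
  have hhp : h ^ p = 1 := by rw [← hh, pow_orderOf_eq_one]
  have hjhs : j h * j s = j s * j h := by rw [← map_mul, hhs, map_mul]
  rcases OddHalf.D4.Spor.HN.inv_cases hs2 hs1 with ⟨g, hg⟩ | ⟨g, hg⟩
  · have L := Large.conj F.large (j g)
    have e : j g * j W0 * (j g)⁻¹ = j s := by rw [← map_inv, ← map_mul, ← map_mul, hg]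
    rw [e] at L
    set R : Subgroup G := (RS.map j).map (MulAut.conj (j g)).toMonoidHom with hR
    have hRj : ∀ u ∈ R, ∃ v, j v = u := by
      rintro _ ⟨_, ⟨v, -, rfl⟩, rfl⟩
      exact ⟨g * v * g⁻¹, by rw [map_mul, map_mul, map_inv]; rfl⟩
    -- `h` does not centralise `C_R(t)`
    obtain ⟨u, hu, hut, huh⟩ : ∃ u ∈ R, u * t = t * u ∧ u * j h ≠ j h * u := by
      by_contra hno
      push Not at hno
      obtain ⟨v, hv, hvh⟩ := Large.not_cent L hjhs hp hp2 (by rw [← map_pow, hhp, map_one])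
        (fun h0 => hh1 (F.inj (by rw [h0, map_one])))
      exact hvh (Large.axb L htt hts hjhs hth (hp.odd_of_ne_two hp2) (by rw [← map_pow, hhp, map_one]) hno v hv)
    -- the commutator
    set v : G := u * j h * u⁻¹ * (j h)⁻¹ with hv
    have hvR : v ∈ R := by
      have h1 : v = u * (j h * u⁻¹ * (j h)⁻¹) := by rw [hv]; group
      rw [h1]
      exact R.mul_mem hu (L.conj_mem _ hjhs _ (R.inv_mem hu))
    have hv1 : v ≠ 1 := by
      intro h0
      apply huh
      rw [hv, mul_inv_eq_one, mul_inv_eq_iff_eq_mul] at h0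
      exact h0
    have hvt : v * t = t * v := by
      have c1 : Commute u t := hut
      have c2 : Commute (j h) t := hth.symm
      rw [hv]
      exact (((c1.mul_left c2).mul_left c1.inv_left).mul_left c2.inv_left).eq
    have hvcl : v ∈ closure {z | ∃ c : G, c * t = t * c ∧ z = c * j h * c⁻¹} := by
      rw [hv]
      refine mul_mem (subset_closure ⟨u, hut, rfl⟩) (inv_mem (subset_closure ⟨1, by rw [one_mul, mul_one], by
        rw [one_mul, inv_one, mul_one]⟩))
    have hv4 := Large.pow_four L hvR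
    -- an involution
    obtain ⟨y, hy2, hy1, hyv⟩ : ∃ y : G, y * y = 1 ∧ y ≠ 1 ∧ y ∈ zpowers v := by
      by_cases h0 : v * v = 1
      · exact ⟨v, h0, hv1, mem_zpowers v⟩
      · refine ⟨v * v, ?_, h0, mul_mem (mem_zpowers v) (mem_zpowers v)⟩
        rw [← hv4]; simp only [pow_succ, pow_zero, one_mul, mul_assoc]
    have hyR : y ∈ R := (zpowers_le.2 hvR) hyv
    obtain ⟨y', rfl⟩ := hRj y hyR
    have hyt : t * j y' = j y' * t := by
      obtain ⟨k, hk⟩ := mem_zpowers_iff.1 hyv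
      rw [← hk]
      exact ((show Commute v t from hvt).zpow_left k).eq.symm
    have hyo : orderOf y' = 2 := by
      refine orderOf_eq_prime (F.inj ?_) (fun h0 => hy1 (by rw [h0, map_one]))
      rw [pow_two, map_mul, hy2, map_one]
    refine kill_ts F hRC hF htt hto hyo hyt (Cfsg.Agent.H867.RC.pair_mv hcov ?_)
    exact (zpowers_le.2 hvcl) hyv
  · obtain ⟨ω, hω⟩ := hF s hs1
    apply hω
    refine kill2A F hRC (pf_two Nat.prime_two hp (Ne.symm hp2) hot hjh hth) hg ?_ ?_ ?_ ?_ ω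
    · rintro (_ | _)
      · exact hjhs
      · exact hts
    · rintro (_ | _) h0
      · exact absurd h0 hp2
      · exact hto
    · rintro (_ | _) h0
      · exact ⟨h, rfl⟩
      · exact absurd rfl h0
    · intro ω
      rcases hcov ω with h0 | h0
      · exact Or.inr ⟨true, h0⟩
      · exact Or.inr ⟨false, h0⟩

end kill

end Cfsg.Agent.H31.RC.Spor.HN
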