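import Cfsg.Agent.H31.RC.Spor.HNc
import Cfsg.Agent.H728.Four.HNThreeComm

/-!
# S3509, the Harada-Norton group: covers with an outer involution, the cases (helper31)

* `kill_single` : no cover `{t, h}`, `t` an outer involution, `h` of odd prime order;
* `kill_X3` : no cover `{t, X3, h}`, `h` of order 5.
-/

set_option autoImplicit false
open Cfsg

namespace Cfsg.Agent.H31.RC.Spor.HN

open MulAction Subgroup Cfsg.Agent.H106.RC Cfsg.Agent.H873.RG Cfsg.Agent.H380.RC
open Cfsg.Agent.HN Cfsg.Agent.HN.Pres Cfsg.Agent.HN.XWords Cfsg.Agent.HN.XStruct Cfsg.Agent.KFacts.HN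
open Cfsg.Agent.HN.H0Basic Cfsg.Agent.Co2Type.Quad
open Cfsg.Agent.CpAutHN.Pairs (X1 X3 order_X3 order_X1)
open Cfsg.Agent.H651.HNF (card7 card11 card19)

section frat

/-- **Frattini**: `y` of prime order `q`, `q² ∤ |C|`, `|C|` even, `|N(⟨y⟩)|` odd -/
theorem frat_norm {C : Type*} [Group C] [Finite C] {q : ℕ} (hq : q.Prime) {y : C} (hy : orderOf y = q)
    (hqq : ¬ q * q ∣ Nat.card C) (h2 : 2 ∣ Nat.card C)
    (hN2 : ¬ 2 ∣ Nat.card (normalizer ((zpowers y : Subgroup C) : Set C))) :
    2 ∣ Nat.card (normalClosure ({y} : Set C)) := by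
  classical
  by_contra hN
  have hfq : Fact q.Prime := ⟨hq⟩
  set N := normalClosure ({y} : Set C) with hNdef
  have hyN : y ∈ N := subset_normalClosure rfl
  let y' : N := ⟨y, hyN⟩
  have hy' : orderOf y' = q := by rw [← hy]; exact Subgroup.orderOf_mk y hyN
  have hcardN : Nat.card N ∣ Nat.card C := Subgroup.card_subgroup_dvd_card N
  have hP : ¬ q ^ 2 ∣ Nat.card N := fun h => hqq (by rw [← pow_two]; exact h.trans hcardN)
  have hPg : IsPGroup q (zpowers y') := IsPGroup.of_card (n := 1) (by rw [Nat.card_zpowers, hy', pow_one])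
  obtain ⟨P, hPle⟩ := hPg.exists_le_sylow
  have hPcard : Nat.card P = q := by
    obtain ⟨m, hm⟩ := IsPGroup.iff_card.1 P.2
    have h1 : m < 2 := by
      by_contra hlt
      apply hP
      have : q ^ 2 ∣ q ^ m := pow_dvd_pow q (by omega)
      rw [← hm] at this
      exact this.trans (Subgroup.card_subgroup_dvd_card _)
    have h2 : q ∣ Nat.card P := by
      have := Subgroup.card_dvd_of_le hPle
      rwa [Nat.card_zpowers, hy'] at this
    rw [hm] at h2 ⊢
    interval_cases m
    · rw [pow_zero] at h2; exact absurd (Nat.dvd_one.1 h2) hq.one_lt.ne'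
    · rw [pow_one]
  have hPeq : zpowers y' = (P : Subgroup N) := by
    apply Subgroup.eq_of_le_of_card_ge hPle
    rw [Nat.card_zpowers, hy']; exact hPcard.le
  have hfr := P.normalizer_sup_eq_top
  rw [← hPeq] at hfr
  have hmap : (zpowers y').map N.subtype = zpowers y := by
    rw [MonoidHom.map_zpowers]; rfl
  rw [hmap] at hfr
  have h1 : Nat.card C ∣ Nat.card (normalizer ((zpowers y : Subgroup C) : Set C)) * Nat.card N := by
    have h2 : N.relIndex (normalizer ((zpowers y : Subgroup C) : Set C)) = N.index := by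
      rw [← Subgroup.relIndex_sup_right (normalizer ((zpowers y : Subgroup C) : Set C)) N, hfr,
        Subgroup.relIndex_top_right]
    rw [← Subgroup.index_mul_card N, ← h2]
    exact Nat.mul_dvd_mul_right (Subgroup.relIndex_dvd_card _ _) _
  rcases Nat.prime_two.dvd_mul.1 (h2.trans h1) with h | h
  · exact hN2 h
  · exact hN h

end frat

variable {G : Type} [Group G] {j : Spor.HN →* G} {φ : G →* MulAut Spor.HN}

/-- `t` fixes an involution of `C(h)` -/
theorem exists_s (F : Fr j φ) {t : G} (htt : t * t = 1) {h : Spor.HN} (hth : t * j h = j h * t)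
    (he : Even (Nat.card (centralizer ({h} : Set Spor.HN)))) :
    ∃ s : Spor.HN, orderOf s = 2 ∧ t * j s = j s * t ∧ h * s = s * h := by
  have := fin
  obtain ⟨u, hu, htu, huh⟩ := H291.Parity.exists_comm_invo (φ t) (F.sq htt) (F.comm_iff.1 hth) he
  exact ⟨u, hu, F.comm_iff.2 htu, huh.symm⟩

theorem even_of_comm {h s : Spor.HN} (hs : orderOf s = 2) (hc : s * h = h * s) :
    Even (Nat.card (centralizer ({h} : Set Spor.HN))) := by
  have := fin
  rw [even_iff_two_dvd, ← hs]
  exact dvd_cent rfl hc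

theorem even_three {h : Spor.HN} (hh : orderOf h = 3) : Even (Nat.card (centralizer ({h} : Set Spor.HN))) := by
  obtain ⟨t, ht, hc⟩ := Cfsg.Agent.H728.Four.HN3C.comm_inv (a := h) (by rw [← hh, pow_orderOf_eq_one])
  exact even_of_comm ht hc

theorem even_five {h : Spor.HN} (hh : orderOf h = 5) : Even (Nat.card (centralizer ({h} : Set Spor.HN))) := by
  have := fin
  obtain ⟨_, _, _, _, _, _, D⟩ := Cfsg.Agent.H536.T5.dat
  obtain ⟨s, hs2, hs1, hsx⟩ := D.exists_inv (by rw [Classes.card_HN]; norm_num) hh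
  have hs : orderOf s = 2 := orderOf_eq_prime (by rw [pow_two]; exact hs2) hs1
  exact even_of_comm hs hsx

section kill

variable {Ω : Type} [MulAction G Ω]

theorem kill_19 (F : Fr j φ) (hRC : RC Cfsg.Spor.HS) (hF : ∀ u : Spor.HN, u ≠ 1 → ∃ ω : Ω, j u • ω ≠ ω) {t : G}
    (htt : t * t = 1) (hto : t ∉ j.range) {h : Spor.HN} (hh : orderOf h = 19) (hth : t * j h = j h * t)
    (hcov : ∀ ω : Ω, t • ω = ω ∨ j h • ω = ω) : False := by
  have := fin
  have hf2 : Fact (Nat.Prime 2) := ⟨Nat.prime_two⟩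
  have hf19 : Fact (Nat.Prime 19) := ⟨by norm_num⟩
  let Ct : Subgroup Spor.HN := (φ t).toMonoidHom.eqLocus (MonoidHom.id Spor.HN)
  have hCt : ∀ {u : Spor.HN}, u ∈ Ct ↔ t * j u = j u * t := fun {u} => (F.comm_iff (g := t) (u := u)).symm
  have hhC : h ∈ Ct := hCt.2 hth
  have h2 : 2 ∣ Nat.card Ct := by
    obtain ⟨s, hs, hts, -⟩ := exists_s F htt (h := 1) (by rw [map_one, mul_one, one_mul]) (by
      have h1 : centralizer ({(1 : Spor.HN)} : Set Spor.HN) = ⊤ := by
        rw [eq_top_iff]
        intro x _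
        rw [mem_centralizer_singleton_iff, mul_one, one_mul]
      rw [h1, Subgroup.card_top, Classes.card_HN]
      decide)
    have h1 := Subgroup.orderOf_dvd_natCard Ct (hCt.2 hts)
    rwa [hs] at h1
  have hcG : Nat.card Spor.HN = 273030912000000 := Classes.card_HN
  have hd : ∀ n : ℕ, n ∣ Nat.card Ct → n ∣ 273030912000000 := fun n hn => by
    rw [← hcG]; exact hn.trans (Subgroup.card_subgroup_dvd_card _)
  have hN171 : Nat.card (normalizer ((zpowers h : Subgroup Spor.HN) : Set Spor.HN)) = 171 := by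
    have h1 := Cfsg.Agent.H651.HNF.card_normalizer_eq (p := 19) (x := h) (K := 1) (n := 14370048000000) (e := 9)
      (by rw [hcG]; norm_num) hh (by rw [card19 h hh]) (by rw [hcG]) (by norm_num) (by norm_num) (by norm_num)
    rw [h1]
  let y : Ct := ⟨h, hhC⟩
  have hy : orderOf y = 19 := by rw [← hh]; exact Subgroup.orderOf_mk h hhC
  have hNy : ¬ 2 ∣ Nat.card (normalizer ((zpowers y : Subgroup Ct) : Set Ct)) := by
    intro h0
    have hle : (normalizer ((zpowers y : Subgroup Ct) : Set Ct)).map Ct.subtype ≤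
        normalizer ((zpowers h : Subgroup Spor.HN) : Set Spor.HN) := by
      have hm : (zpowers y).map Ct.subtype = zpowers h := by rw [MonoidHom.map_zpowers]; rfl
      rw [← hm]
      exact Subgroup.le_normalizer_map _
    have h3 := Subgroup.card_dvd_of_le hle
    rw [hN171, ← Nat.card_congr ((normalizer ((zpowers y : Subgroup Ct) : Set Ct)).equivMapOfInjective Ct.subtype
      (Subgroup.subtype_injective _)).toEquiv] at h3
    have h4 := h0.trans h3
    norm_num at h4
  have hcl := frat_norm (C := Ct) (by norm_num) hy (fun h0 => by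
    have := hd _ h0
    norm_num at this) h2 hNy
  obtain ⟨s, hs⟩ := exists_prime_orderOf_dvd_card' 2 hcl
  have hs' : orderOf ((s : Ct) : Spor.HN) = 2 := by rw [Subgroup.orderOf_coe, Subgroup.orderOf_coe, hs]
  refine kill_ts F hRC hF htt hto hs' (hCt.1 (s : Ct).2) (Cfsg.Agent.H867.RC.pair_mv hcov ?_)
  have h3 : (normalClosure ({y} : Set Ct)).map (j.comp Ct.subtype) ≤
      closure {z | ∃ c : G, c * t = t * c ∧ z = c * j h * c⁻¹} := by
    rw [normalClosure, MonoidHom.map_closure, closure_le]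
    rintro _ ⟨w, hw, rfl⟩
    obtain ⟨a, ha, hw⟩ := Group.mem_conjugatesOfSet_iff.1 hw
    rw [Set.mem_singleton_iff] at ha
    subst ha
    obtain ⟨c, hc⟩ := isConj_iff.1 hw
    refine subset_closure ⟨j (c : Spor.HN), (hCt.1 c.2).symm, ?_⟩
    rw [← hc]
    simp only [MonoidHom.comp_apply, map_mul, map_inv]
    rfl
  exact h3 ⟨_, s.2, rfl⟩

/-- **one element of odd order** -/
theorem kill_single (F : Fr j φ) (hRC : RC Cfsg.Spor.HS) (hF : ∀ u : Spor.HN, u ≠ 1 → ∃ ω : Ω, j u • ω ≠ ω) {t : G}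
    (htt : t * t = 1) (hto : t ∉ j.range) {h : Spor.HN} {p : ℕ} (hp : p.Prime) (hp2 : p ≠ 2) (hh : orderOf h = p)
    (hth : t * j h = j h * t) (hcov : ∀ ω : Ω, t • ω = ω ∨ j h • ω = ω) : False := by
  have := fin
  have hgo : Even (Nat.card (centralizer ({h} : Set Spor.HN))) → False := by
    intro he
    obtain ⟨s, hs, hts, hhs⟩ := exists_s F htt hth he
    exact kill_th F hRC hF htt hto hs hts hp hp2 hh hth hhs hcov
  have hd : p ∣ 273030912000000 := by
    rw [← H569.HNThree.card_G, ← hh]; exact orderOf_dvd_natCard h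
  rcases prime_cases hp hd with rfl | rfl | rfl | rfl | rfl | rfl
  · exact hp2 rfl
  · exact hgo (even_three hh)
  · exact hgo (even_five hh)
  · exact hgo (by rw [card7 h hh]; decide)
  · exact hgo (by rw [card11 h hh]; decide)
  · exact kill_19 F hRC hF htt hto hh hth hcov

end kill

end Cfsg.Agent.H31.RC.Spor.HN
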