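import Cfsg.Agent.H31.RC.Spor.HNd

/-!
# S3509, the Harada-Norton group: covers with an outer involution and two elements of odd order (helper31)

* `kill_X3` : no cover `{t, X3, h}`, `h` of order 5.
-/

set_option autoImplicit false
open Cfsg

namespace Cfsg.Agent.H31.RC.Spor.HN

open MulAction Subgroup Cfsg.Agent.H106.RC Cfsg.Agent.H873.RG Cfsg.Agent.H380.RC
open Cfsg.Agent Cfsg.Agent.CpAutHN Cfsg.Agent.CpAutHN.Alt Cfsg.Agent.CpAutHN.Tr Cfsg.Agent.CpAutHN.Pairs
open Cfsg.Agent.H478.HNThree (OO OO_normal xx order_xx xx_comm q Ob Z_le dd dd_mem)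
open Cfsg.Agent.H569.HNThree (MM mk)
open Cfsg.Agent.KFacts.HN (W0_ne)
open Cfsg.Agent.H651.HNF (card7 card11 card19)

theorem pGroup_OO : ∀ u : MM, u ∈ OO → u ^ 243 = 1 := by
  intro u hu
  have := fin
  have h1 : (q u) ^ 81 = 1 := by
    have h2 : (⟨q u, ⟨u, hu, rfl⟩⟩ : Ob) ^ Nat.card Ob = 1 := pow_card_eq_one'
    obtain ⟨k, hk⟩ := Cfsg.Agent.H187.Ore.HN15.card_Ob
    have h3 : (⟨q u, ⟨u, hu, rfl⟩⟩ : Ob) ^ 81 = 1 := by rw [hk, pow_mul, h2, one_pow]
    exact congrArg Subtype.val h3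
  rw [← map_pow] at h1
  obtain ⟨n, hn⟩ := mem_zpowers_iff.1 ((QuotientGroup.eq_one_iff _).1 h1)
  have h3 : xx ^ 3 = 1 := by rw [← order_xx, pow_orderOf_eq_one]
  rw [show 243 = 81 * 3 by norm_num, pow_mul, ← hn, ← zpow_natCast, ← zpow_mul, mul_comm, zpow_mul, zpow_natCast, h3,
    one_zpow]

theorem map_MM {a : MulAut Spor.HN} (ha : a X3 = X3) {u : Spor.HN} (hu : u ∈ MM) : a u ∈ MM := by
  have h1 := mem_centralizer_singleton_iff.1 hu
  rw [mem_centralizer_singleton_iff]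
  calc a u * X3 = a (u * X3) := by rw [map_mul, ha]
    _ = a (X3 * u) := by rw [h1]
    _ = X3 * a u := by rw [map_mul, ha]

/-- automorphisms fixing `X3` preserve `O(C(X3))` -/
theorem map_OO {a : MulAut Spor.HN} (ha : a X3 = X3) {u : MM} (hu : u ∈ OO) : ∃ v : MM, v ∈ OO ∧ (v : Spor.HN) = a u := by
  have hai : a⁻¹ X3 = X3 := by rw [MulAut.inv_apply, MulEquiv.symm_apply_eq, ha]
  let e : MM ≃* MM :=
    { toFun := fun x => ⟨a x, map_MM ha x.2⟩
      invFun := fun x => ⟨a⁻¹ x, map_MM hai x.2⟩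
      left_inv := fun x => Subtype.ext (MulAut.inv_apply_self _ a _)
      right_inv := fun x => Subtype.ext (MulAut.apply_inv_self _ a _)
      map_mul' := fun x y => Subtype.ext (map_mul a _ _) }
  have h1 : (pPrimeCore 2 MM).map e.toMonoidHom = pPrimeCore 2 MM := Lib.Cores.map_equiv_pPrimeCore e 2
  refine ⟨e u, ?_, rfl⟩
  have h2 : e u ∈ (pPrimeCore 2 MM).map e.toMonoidHom := ⟨u, hu, rfl⟩
  rwa [h1] at h2

theorem mod_xx {c : MM} (h : c ∈ zpowers xx) : ∃ n < 3, c = xx ^ n := by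
  obtain ⟨n, hn, h1⟩ := Cfsg.Agent.H991.SN.HN.mod_three h
  exact ⟨n, hn, h1⟩

theorem dd_not : dd ∉ zpowers xx := by
  intro h
  obtain ⟨n, hn, h1⟩ := mod_xx h
  have h2 : Φ ⟨x1, x1_mem⟩ = Φ (⟨x3, x3_mem⟩ ^ n) := by
    rw [map_pow]
    have h3 := congrArg Subtype.val h1
    rw [Subgroup.coe_pow] at h3
    exact h3
  have h3 : x1 = x3 ^ n := by
    have h4 := congrArg Subtype.val (Φ_inj h2)
    rw [Subgroup.coe_pow] at h4
    exact h4
  have key : ∀ n < 3, x1 ≠ x3 ^ n := by decide +kernel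
  exact key n hn h3

variable {G : Type} [Group G] {j : Spor.HN →* G} {φ : G →* MulAut Spor.HN}

section kill

variable {Ω : Type} [MulAction G Ω]

/-- the image of `O(C(X3))` -/
noncomputable def EE (j : Spor.HN →* G) : Subgroup G := OO.map (j.comp MM.subtype)

theorem kill_X3 (hcen : ∀ c : MM, c ∈ OO → (∀ u ∈ OO, u * c = c * u) → c ∈ zpowers xx)
    (F : Fr j φ) (hRC : RC Cfsg.Spor.HS) (hF : ∀ u : Spor.HN, u ≠ 1 → ∃ ω : Ω, j u • ω ≠ ω) {t : G}
    (htt : t * t = 1) (hto : t ∉ j.range) {h : Spor.HN} (hh : orderOf h = 5) (hX : h * X3 = X3 * h)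
    (htX : t * j X3 = j X3 * t) (hth : t * j h = j h * t)
    (hcov : ∀ ω : Ω, t • ω = ω ∨ j X3 • ω = ω ∨ j h • ω = ω) : False := by
  have := fin
  have hf3 : Fact (Nat.Prime 3) := ⟨Nat.prime_three⟩
  have hX1 : X3 ≠ 1 := fun h0 => by
    have := order_X3
    rw [h0, orderOf_one] at this
    norm_num at this
  have ht1 : t ≠ 1 := by rintro rfl; exact hto (one_mem _)
  have hot : orderOf t = 2 := orderOf_eq_prime (by rw [pow_two, htt]) ht1
  have hjh : orderOf (j h) = 5 := by rw [orderOf_injective j F.inj, hh]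
  have hfinE : Finite ↥(EE j) := by
    have : Finite ↥j.range := Finite.of_surjective _ j.rangeRestrict_surjective
    refine Finite.of_injective (fun u : ↥(EE j) => (⟨(u : G), ?_⟩ : ↥j.range)) ?_
    · obtain ⟨v, -, hv⟩ := u.2
      exact ⟨_, hv⟩
    · intro a b hab
      exact Subtype.ext (congrArg (fun w : ↥j.range => (w : G)) hab)
  have hE : IsPGroup 3 ↥(EE j) := by
    rintro ⟨_, v, hv, rfl⟩
    refine ⟨5, Subtype.ext ?_⟩
    rw [Subgroup.coe_pow, Subgroup.coe_one]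
    show ((j.comp MM.subtype) v) ^ 3 ^ 5 = 1
    rw [← map_pow, show (3 : ℕ) ^ 5 = 243 by norm_num, pGroup_OO v hv, map_one]
  have hmem : ∀ {v : MM}, v ∈ OO → j (v : Spor.HN) ∈ EE j := fun {v} hv => ⟨v, hv, rfl⟩
  have hEX : ∀ u ∈ EE j, u * j X3 = j X3 * u := by
    rintro _ ⟨v, -, rfl⟩
    have h1 : (v : Spor.HN) * X3 = X3 * v := mem_centralizer_singleton_iff.1 v.2
    show j v * j X3 = j X3 * j v
    rw [← map_mul, h1, map_mul]
  have hEt : ∀ {g : G}, φ g X3 = X3 → ∀ u ∈ EE j, g * u * g⁻¹ ∈ EE j := by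
    rintro g hg _ ⟨v, hv, rfl⟩
    obtain ⟨w, hw, e⟩ := map_OO hg hv
    show g * j v * g⁻¹ ∈ EE j
    rw [F.act, ← e]
    exact hmem hw
  have hφt : φ t X3 = X3 := F.comm_iff.1 htX
  have hφh : φ (j h) X3 = X3 := by
    apply F.comm_iff.1
    rw [← map_mul, hX, map_mul]
  have hnorm : ∀ {g : G}, φ g X3 = X3 → g ∈ normalizer ((EE j : Subgroup G) : Set G) := by
    intro g hg
    have hgi : φ g⁻¹ X3 = X3 := by rw [map_inv, MulAut.inv_apply, MulEquiv.symm_apply_eq, hg]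
    rw [mem_normalizer_iff]
    intro u
    constructor
    · exact fun hu => hEt hg u hu
    · intro hu
      have h1 := hEt hgi _ hu
      have h2 : g⁻¹ * (g * u * g⁻¹) * g⁻¹⁻¹ = u := by group
      rwa [h2] at h1
  have hz : ∀ c ∈ EE j, (∀ u ∈ EE j, u * c = c * u) → c ^ 3 = 1 → c ≠ 1 → j X3 ∈ zpowers c := by
    rintro _ ⟨c, hc, rfl⟩ hcc - hc1
    have h1 : c ∈ zpowers xx := by
      refine hcen c hc fun u hu => Subtype.ext (F.inj ?_)
      show j ((u : Spor.HN) * c) = j ((c : Spor.HN) * u)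
      rw [map_mul, map_mul]
      exact hcc _ (hmem hu)
    obtain ⟨n, hn, rfl⟩ := mod_xx h1
    have h3 : (X3 : Spor.HN) ^ 3 = 1 := by rw [← order_X3, pow_orderOf_eq_one]
    interval_cases n
    · exact absurd (by rw [pow_zero, map_one]) hc1
    · rw [pow_one]
      exact mem_zpowers _
    · refine mem_zpowers_iff.2 ⟨2, ?_⟩
      show (j ((xx ^ 2 : MM) : Spor.HN)) ^ (2 : ℤ) = j X3
      have h4 : ((xx ^ 2 : MM) : Spor.HN) = X3 ^ 2 := rfl
      rw [h4, zpow_ofNat, ← map_pow, ← pow_mul, show 2 * 2 = 3 + 1 by norm_num, pow_succ, h3, one_mul]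
  have hcmm : ∀ {g : G}, φ g X3 = X3 → (∃ u ∈ EE j, u * g ≠ g * u) → j X3 ∈ cmm (EE j) g := fun {g} hg hne =>
    Cfsg.Agent.H867.RC.mem_cm Nat.prime_three hE hz (hnorm hg) hne
  have hhm : h ∈ MM := mem_centralizer_singleton_iff.2 hX
  have hhne : ∃ u ∈ EE j, u * j h ≠ j h * u := by
    by_contra hno
    push Not at hno
    apply dd_not
    refine Cfsg.Agent.H187.Ore.HN15.mem_of_comm (y := ⟨h, hhm⟩) (by rw [Subgroup.orderOf_mk, hh]) dd_mem ?_
    apply Subtype.ext
    apply F.inj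
    show j (h * (dd : Spor.HN)) = j ((dd : Spor.HN) * h)
    rw [map_mul, map_mul]
    exact (hno _ (hmem dd_mem)).symm
  have hch := hcmm hφh hhne
  by_cases htE : ∃ u ∈ EE j, u * t ≠ t * u
  · obtain ⟨ω, hω⟩ := hF X3 hX1
    apply hω
    have hp := pf_two Nat.prime_two Nat.prime_five (by norm_num) hot hjh hth
    obtain ⟨m, hm⟩ := (IsPGroup.iff_card).1 hE
    refine lr_rule (ι := Bool) (x := two t (j h)) (r := fun c => cond c 2 5) hp.prime hp.pow hp.comm (U := EE j)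
      (y := j X3) ?_ ?_ hE.isNilpotent ?_ hEX ?_ ω
    · intro ω
      rcases hcov ω with h0 | h0 | h0
      · exact Or.inr ⟨true, h0⟩
      · exact Or.inl h0
      · exact Or.inr ⟨false, h0⟩
    · rintro (_ | _) u hu
      · exact hEt hφh u hu
      · exact hEt hφt u hu
    · rintro (_ | _)
      · rw [hm]; exact Nat.Coprime.pow_right _ (by norm_num)
      · rw [hm]; exact Nat.Coprime.pow_right _ (by norm_num)
    · rintro (_ | _)
      · exact hch
      · exact hcmm hφt htE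
  · push Not at htE
    refine kill_single F hRC hF htt hto Nat.prime_three (by norm_num) order_X3 htX fun ω => ?_
    by_contra hω
    push Not at hω
    apply hω.2
    refine comm_le (U := EE j) (x := j h) (fun u hu => ?_) hch
    rcases hcov (u • ω) with h0 | h0 | h0
    · exfalso
      apply hω.1
      rw [← mul_smul, ← htE u hu, mul_smul] at h0
      exact smul_left_cancel _ h0
    · exfalso
      apply hω.2
      rw [← mul_smul, ← hEX u hu, mul_smul] at h0
      exact smul_left_cancel _ h0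
    · exact h0

end kill

end Cfsg.Agent.H31.RC.Spor.HN
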