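import Cfsg.Agent.H31.RC.Spor.HNe
import Cfsg.Agent.H474.RG.HNaut

/-!
# S3509, the Harada-Norton group: covers with an outer involution and two elements of odd order, the pairs (helper31)

* `kill_X1` : no cover `{t, X1, h}`, `h` of order 5 or 7;
* `kill_57` : no cover `{t, h5, h7}`;
* `kill_pair` : no cover `{t, x, y}`, `x`, `y` of different odd prime orders.
-/

set_option autoImplicit false
open Cfsg

namespace Cfsg.Agent.H31.RC.Spor.HN

open MulAction Subgroup Cfsg.Agent.H106.RC Cfsg.Agent.H873.RG Cfsg.Agent.H380.RC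
open Cfsg.Agent Cfsg.Agent.CpAutHN Cfsg.Agent.CpAutHN.Alt Cfsg.Agent.CpAutHN.Tr Cfsg.Agent.CpAutHN.Pairs

open Cfsg.Agent.H651.HNF (card7 card11 card19)

/-- an involution commuting with elements of order 7 is of the class of `Q 0` -/
theorem class_2A {s : Spor.HN} (hs : orderOf s = 2) (h7 : 7 ∣ Nat.card (centralizer ({s} : Set Spor.HN))) :
    ∃ c, c * Cfsg.Agent.HN.XWords.Q 0 * c⁻¹ = s := by
  have hs2 : s * s = 1 := by rw [← pow_two, ← hs, pow_orderOf_eq_one]
  have hs1 : s ≠ 1 := fun h => by rw [h, orderOf_one] at hs; norm_num at hs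
  rcases OddHalf.D4.Spor.HN.inv_cases hs2 hs1 with ⟨g, hg⟩ | h
  · exfalso
    rw [← hg, card_cent_conj] at h7
    have h1 : 7 ∣ 3686400 := by
      rw [← KFacts.HN.card_PP]; exact h7
    norm_num at h1
  · exact h

variable {G : Type} [Group G] {j : Spor.HN →* G} {φ : G →* MulAut Spor.HN}

section kill

variable {Ω : Type} [MulAction G Ω]

/-- the common step -/
theorem kill_step (F : Fr j φ) (hRC : RC Cfsg.Spor.HS) (hF : ∀ u : Spor.HN, u ≠ 1 → ∃ ω : Ω, j u • ω ≠ ω) {t : G}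
    (htt : t * t = 1) (hto : t ∉ j.range) {x h w : Spor.HN} {r : ℕ} (hr : r.Prime) (hr2 : r ≠ 2) (hx : orderOf x = r)
    (htx : t * j x = j x * t) (hth : t * j h = j h * t) (hhx : h * x = x * h) (hwx : w * x = x * w)
    (htw : t * j w = j w * t) {k : ℕ} (hs : orderOf (h * (w * h ^ k * w⁻¹)) = 2)
    (h7 : 7 ∣ Nat.card (centralizer ({h * (w * h ^ k * w⁻¹)} : Set Spor.HN)))
    (hcov : ∀ ω : Ω, t • ω = ω ∨ j x • ω = ω ∨ j h • ω = ω) : False := by
  have ht1 : t ≠ 1 := by rintro rfl; exact hto (one_mem _)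
  have hot : orderOf t = 2 := orderOf_eq_prime (by rw [pow_two, htt]) ht1
  have hjx : orderOf (j x) = r := by rw [orderOf_injective j F.inj, hx]
  obtain ⟨c, hc⟩ := class_2A hs h7
  have hs1 : h * (w * h ^ k * w⁻¹) ≠ 1 := fun h => by rw [h, orderOf_one] at hs; norm_num at hs
  obtain ⟨ω, hω⟩ := hF _ hs1
  apply hω
  have c1 : Commute h x := hhx
  have c2 : Commute w x := hwx
  have c3 : Commute (j h) t := hth.symm
  have c4 : Commute (j w) t := htw.symm
  refine kill2A F hRC (pf_two Nat.prime_two hr (Ne.symm hr2) hot hjx htx) hc ?_ ?_ ?_ ?_ ω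
  · rintro (_ | _)
    · show j x * j _ = j _ * j x
      rw [← map_mul, ← map_mul]
      congr 1
      exact ((c1.mul_left ((c2.mul_left (c1.pow_left k)).mul_left c2.inv_left)).eq).symm
    · show t * j _ = j _ * t
      rw [map_mul, map_mul, map_mul, map_pow, map_inv]
      exact ((c3.mul_left ((c4.mul_left (c3.pow_left k)).mul_left c4.inv_left)).eq).symm
  · rintro (_ | _) h0
    · exact absurd h0 hr2
    · exact hto
  · rintro (_ | _) h0
    · exact ⟨x, rfl⟩
    · exact absurd rfl h0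
  · intro ω
    by_cases h1 : t • ω = ω
    · exact Or.inr ⟨true, h1⟩
    by_cases h2 : j x • ω = ω
    · exact Or.inr ⟨false, h2⟩
    left
    have h3 : j h • ω = ω := by
      rcases hcov ω with h | h | h
      · exact absurd h h1
      · exact absurd h h2
      · exact h
    have h4 : j h • (j w)⁻¹ • ω = (j w)⁻¹ • ω := by
      rcases hcov ((j w)⁻¹ • ω) with h | h | h
      · exfalso; apply h1
        rw [← mul_smul, (show Commute t (j w)⁻¹ from c4.symm.inv_right).eq, mul_smul] at h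
        exact smul_left_cancel _ h
      · exfalso; apply h2
        have c5 : Commute (j x) (j w) := by
          show j x * j w = j w * j x
          rw [← map_mul, ← map_mul, hwx]
        rw [← mul_smul, (c5.inv_right).eq, mul_smul] at h
        exact smul_left_cancel _ h
      · exact h
    have h5 : ∀ {g : G} {ω : Ω} (n : ℕ), g • ω = ω → g ^ n • ω = ω := by
      intro g ω n hg
      induction n with
      | zero => rw [pow_zero, one_smul]
      | succ n ih => rw [pow_succ, mul_smul, hg, ih]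
    rw [map_mul, map_mul, map_mul, map_pow, map_inv, mul_smul, mul_smul, mul_smul, h5 k h4, smul_inv_smul, h3]

theorem kill_X1 (F : Fr j φ) (hRC : RC Cfsg.Spor.HS) (hF : ∀ u : Spor.HN, u ≠ 1 → ∃ ω : Ω, j u • ω ≠ ω) {t : G}
    (htt : t * t = 1) (hto : t ∉ j.range) {h : Spor.HN} {p : ℕ} (hp : p = 5 ∨ p = 7) (hh : orderOf h = p)
    (hX : h * X1 = X1 * h) (htX : t * j X1 = j X1 * t) (hth : t * j h = j h * t)
    (hcov : ∀ ω : Ω, t • ω = ω ∨ j X1 • ω = ω ∨ j h • ω = ω) : False := by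
  obtain ⟨w, k, hwx, haw, hs, h7⟩ := H474.RG.HN.a9 (a := φ t) (F.sq htt) (F.comm_iff.1 htX) hp hh hX (F.comm_iff.1 hth)
  exact kill_step F hRC hF htt hto Nat.prime_three (by norm_num) order_X1 htX hth hX hwx (F.comm_iff.2 haw) hs h7 hcov

theorem kill_57 (F : Fr j φ) (hRC : RC Cfsg.Spor.HS) (hF : ∀ u : Spor.HN, u ≠ 1 → ∃ ω : Ω, j u • ω ≠ ω) {t : G}
    (htt : t * t = 1) (hto : t ∉ j.range) {x h : Spor.HN} (hx : orderOf x = 7) (hh : orderOf h = 5)
    (hX : h * x = x * h) (htX : t * j x = j x * t) (hth : t * j h = j h * t)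
    (hcov : ∀ ω : Ω, t • ω = ω ∨ j x • ω = ω ∨ j h • ω = ω) : False := by
  have := fin
  obtain ⟨w, hwx, haw, hs⟩ := H474.RG.HN.a5 (a := φ t) (F.sq htt) hx hh hX (F.comm_iff.1 htX) (F.comm_iff.1 hth)
  rw [← pow_two] at hs
  refine kill_step F hRC hF htt hto (by norm_num) (by norm_num) hx htX hth hX hwx (F.comm_iff.2 haw) hs ?_ hcov
  refine dvd_cent hx ?_
  have c1 : Commute h x := hX
  have c2 : Commute w x := hwx
  exact ((c1.mul_left ((c2.mul_left (c1.pow_left 2)).mul_left c2.inv_left)).eq).symm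

/-- covers `{t, x, y}` -/
structure Tri (j : Spor.HN →* G) (Ω : Type) [MulAction G Ω] (t : G) (x y : Spor.HN) (p q : ℕ) : Prop where
  tt : t * t = 1
  out : t ∉ j.range
  ox : orderOf x = p
  oy : orderOf y = q
  xy : x * y = y * x
  tx : t * j x = j x * t
  ty : t * j y = j y * t
  cov : ∀ ω : Ω, t • ω = ω ∨ j x • ω = ω ∨ j y • ω = ω

theorem Tri.symm {t : G} {x y : Spor.HN} {p q : ℕ} (T : Tri j Ω t x y p q) : Tri j Ω t y x q p :=
  ⟨T.tt, T.out, T.oy, T.ox, T.xy.symm, T.ty, T.tx, fun ω => by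
    rcases T.cov ω with h | h | h
    · exact Or.inl h
    · exact Or.inr (Or.inr h)
    · exact Or.inr (Or.inl h)⟩

theorem Tri.conj {t : G} {x y : Spor.HN} {p q : ℕ} (T : Tri j Ω t x y p q) (c : Spor.HN) :
    Tri j Ω (j c * t * (j c)⁻¹) (c * x * c⁻¹) (c * y * c⁻¹) p q := by
  have e : ∀ u, j (c * u * c⁻¹) = j c * j u * (j c)⁻¹ := fun u => by rw [map_mul, map_mul, map_inv]
  have hfix : ∀ {g : G} {ω : Ω}, g • (j c)⁻¹ • ω = (j c)⁻¹ • ω → (j c * g * (j c)⁻¹) • ω = ω := by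
    intro g ω h
    rw [mul_smul, mul_smul, h, smul_inv_smul]
  refine ⟨?_, ?_, ?_, ?_, comm_conj T.xy c, ?_, ?_, ?_⟩
  · calc j c * t * (j c)⁻¹ * (j c * t * (j c)⁻¹) = j c * (t * t) * (j c)⁻¹ := by group
      _ = 1 := by rw [T.tt, mul_one, mul_inv_cancel]
  · intro h
    have hc : j c ∈ j.range := ⟨c, rfl⟩
    rw [mul_mem_cancel_right (inv_mem hc), mul_mem_cancel_left hc] at h
    exact T.out h
  · rw [orderOf_conj, T.ox]
  · rw [orderOf_conj, T.oy]
  · rw [e]; exact comm_conj T.tx _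
  · rw [e]; exact comm_conj T.ty _
  · intro ω
    rw [e, e]
    rcases T.cov ((j c)⁻¹ • ω) with h | h | h
    · exact Or.inl (hfix h)
    · exact Or.inr (Or.inl (hfix h))
    · exact Or.inr (Or.inr (hfix h))

theorem seven_X3 {h : Spor.HN} (hh : orderOf h = 7) (hX : h * X3 = X3 * h) : False := by
  have := fin
  have h1 := dvd_cent hh hX
  have h2 : Nat.card (centralizer ({X3} : Set Spor.HN)) =
      Nat.card Cfsg.Agent.H478.HNThree.Ob * 360 := Cfsg.Agent.H991.SN.HN.card_MM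
  rw [h2] at h1
  have h3 := h1.trans (Nat.mul_dvd_mul_right Cfsg.Agent.H187.Ore.HN15.card_Ob 360)
  norm_num at h3

/-- **no cover `{t, x, y}`** -/
theorem kill_pair (hcen : ∀ c : H569.HNThree.MM, c ∈ H478.HNThree.OO → (∀ u ∈ H478.HNThree.OO, u * c = c * u) →
      c ∈ zpowers H478.HNThree.xx) (F : Fr j φ) (hRC : RC Cfsg.Spor.HS)
    (hF : ∀ u : Spor.HN, u ≠ 1 → ∃ ω : Ω, j u • ω ≠ ω) {t : G} {x y : Spor.HN} {p q : ℕ} (hpq : p ≠ q)
    (hp : p = 3 ∨ p = 5 ∨ p = 7) (hq : q = 3 ∨ q = 5 ∨ q = 7) (T : Tri j Ω t x y p q) : False := by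
  have := fin
  -- 7, 5
  have k75 : ∀ {x y : Spor.HN}, Tri j Ω t x y 7 5 → False := fun {x y} T =>
    kill_57 F hRC hF T.tt T.out T.ox T.oy T.xy.symm T.tx T.ty T.cov
  -- 3, 5
  have k35 : ∀ {x y : Spor.HN}, Tri j Ω t x y 3 5 → False := by
    intro x y T
    rcases Cfsg.Agent.H187.Ore.HN15.types T.ox T.oy T.xy with ⟨c, hc⟩ | ⟨c, hc⟩
    · have T' := T.conj c
      rw [hc] at T'
      exact kill_X1 F hRC hF T'.tt T'.out (Or.inl rfl) T'.oy T'.xy.symm T'.tx T'.ty T'.cov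
    · have T' := T.conj c
      rw [hc] at T'
      exact kill_X3 hcen F hRC hF T'.tt T'.out T'.oy T'.xy.symm T'.tx T'.ty T'.cov
  have k37 : ∀ {x y : Spor.HN}, Tri j Ω t x y 3 7 → False := by
    intro x y T
    have hx3 : x ^ 3 = 1 := by rw [← T.ox, pow_orderOf_eq_one]
    have hx1 : x ≠ 1 := fun h => by
      have := T.ox
      rw [h, orderOf_one] at this
      norm_num at this
    obtain ⟨s, hs, hc⟩ := Cfsg.Agent.H728.Four.HN3C.comm_inv hx3
    obtain ⟨c, hc⟩ := Cfsg.Agent.H569.HNThree.conj_of_comm (y := x) ⟨1, by rw [pow_one]; exact hx3⟩ hs hc.symm hx1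
    have T' := T.conj c
    rcases hc with hc | hc
    · rw [hc] at T'
      exact kill_X1 F hRC hF T'.tt T'.out (Or.inr rfl) T'.oy T'.xy.symm T'.tx T'.ty T'.cov
    · rw [hc] at T'
      exact seven_X3 T'.oy T'.xy.symm
  rcases hp with rfl | rfl | rfl <;> rcases hq with rfl | rfl | rfl
  · exact hpq rfl
  · exact k35 T
  · exact k37 T
  · exact k35 T.symm
  · exact hpq rfl
  · exact k75 T.symm
  · exact k37 T.symm
  · exact k75 T
  · exact hpq rfl

end kill

end Cfsg.Agent.H31.RC.Spor.HN
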