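import Cfsg.Agent.H31.RC.Spor.HNf
import Cfsg.Agent.H344.RG.HNcen
import Cfsg.Agent.H867.RG.SporOf

/-!
# S3509, the row of the Harada-Norton group (helper31)

`row_hn : RowX (fun S _ => Spor.IsoHN S)`.
-/

set_option autoImplicit false
open Cfsg

namespace Cfsg.Agent.H31.RC.Spor.HN

open MulAction Subgroup Cfsg.Agent.H106.RC Cfsg.Agent.H873.RG Cfsg.Agent.H380.RC

variable {G : Type} [Group G] {j : Spor.HN →* G} {φ : G →* MulAut Spor.HN}

/-- elements of odd order are inner -/
theorem Fr.mem_of_odd (F : Fr j φ) {g : G} {r : ℕ} (hr : Odd r) (hg : g ^ r = 1) : g ∈ j.range := by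
  by_contra hno
  have h1 : ∀ c, φ g ≠ MulAut.conj c := fun c h => hno ⟨c, (F.eq_of_conj h).symm⟩
  have h2 : ∀ c, (φ g)⁻¹ ≠ MulAut.conj c := fun c h => h1 c⁻¹ (by rw [map_inv, ← h, inv_inv])
  obtain ⟨c, hc⟩ := H748.SK.HNRow.exists_mul h1 h2
  have h3 : φ g * φ g = MulAut.conj c⁻¹ := by
    rw [map_inv]
    apply eq_inv_of_mul_eq_one_right
    rw [← mul_assoc, ← hc, inv_mul_cancel]
  obtain ⟨k, rfl⟩ := hr
  have h4 : φ g ^ (2 * k + 1) = 1 := by rw [← map_pow, hg, map_one]
  rw [pow_succ, pow_mul, pow_two, h3, ← map_pow] at h4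
  refine h1 (c⁻¹ ^ k)⁻¹ ?_
  rw [map_inv]
  exact eq_inv_of_mul_eq_one_right h4

theorem noCov_fr (hIH : IHx (Nat.card Spor.HN)) (F : Fr j φ) {Ω : Type} [Nonempty Ω] [MulAction G Ω]
    (hG : ∀ t : G, t ≠ 1 → ∃ ω : Ω, t • ω ≠ ω) {ι : Type} [Finite ι] {x : ι → G} {r : ι → ℕ} (hx : PF x r)
    (hc : Cov Ω x) : False := by
  have := fin
  have hF : ∀ u : Spor.HN, u ≠ 1 → ∃ ω : Ω, j u • ω ≠ ω := fun u hu =>
    hG (j u) (fun h => hu (F.inj (by rw [h, map_one])))
  by_cases hall : ∀ i, x i ∈ j.range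
  · choose y hy using hall
    let _ : MulAction Spor.HN Ω := MulAction.compHom Ω j
    refine inner_hn (Ω := Ω) hIH (fun u hu => hF u hu) (x := y) (r := r) ⟨hx.prime, hx.inj, ?_, ?_, ?_⟩ ?_
    · intro i
      apply F.inj
      rw [map_pow, hy, hx.pow, map_one]
    · intro i hi
      apply hx.ne i
      rw [← hy, hi, map_one]
    · intro i k
      apply F.inj
      rw [map_mul, map_mul, hy, hy]
      exact hx.comm i k
    · intro ω
      obtain ⟨i, hi⟩ := hc ω
      refine ⟨i, ?_⟩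
      show j (y i) • ω = ω
      rw [hy]; exact hi
  · push Not at hall
    obtain ⟨i₀, hi₀⟩ := hall
    have hRC := rc_HS hIH
    have hodd : ∀ i, r i ≠ 2 → x i ∈ j.range := fun i hi => F.mem_of_odd ((hx.prime i).odd_of_ne_two hi) (hx.pow i)
    have hr0 : r i₀ = 2 := by
      by_contra h
      exact hi₀ (hodd i₀ h)
    have hr2 : ∀ {i}, i ≠ i₀ → r i ≠ 2 := fun {i} hi h => hi (hx.inj (h.trans hr0.symm))
    have hmem : ∀ i, i ≠ i₀ → ∃ y, j y = x i := fun i hi => hodd i (hr2 hi)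
    have htt : x i₀ * x i₀ = 1 := by rw [← pow_two, ← hr0, hx.pow]
    have hoy : ∀ {i : ι} {y : Spor.HN}, j y = x i → orderOf y = r i := fun {i y} h => by
      rw [← orderOf_of_pf hx i, ← h, orderOf_injective j F.inj]
    have hcomm : ∀ {i k : ι} {y z : Spor.HN}, j y = x i → j z = x k → y * z = z * y := fun {i k y z} h1 h2 => by
      apply F.inj
      rw [map_mul, map_mul, h1, h2, hx.comm]
    obtain ⟨ω, hω⟩ := hG (x i₀) (hx.ne i₀)
    obtain ⟨a, ha⟩ := hc ω
    have ha0 : a ≠ i₀ := by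
      rintro rfl
      exact hω ha
    obtain ⟨ya, hya⟩ := hmem a ha0
    by_cases h1 : ∀ ω : Ω, x i₀ • ω = ω ∨ x a • ω = ω
    · refine kill_single F hRC hF htt hi₀ (hx.prime a) (hr2 ha0) (hoy hya) ?_ (fun ω => ?_)
      · rw [hya]; exact hx.comm _ _
      · rw [hya]; exact h1 ω
    · push Not at h1
      obtain ⟨ω', h1, h2⟩ := h1
      obtain ⟨b, hb⟩ := hc ω'
      have hb0 : b ≠ i₀ := by
        rintro rfl
        exact h1 hb
      have hba : b ≠ a := by
        rintro rfl
        exact h2 hb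
      obtain ⟨yb, hyb⟩ := hmem b hb0
      have hrn : ∀ {i k : ι}, k ≠ i → r i ≠ r k := fun {i k} hki h => hki (hx.inj h).symm
      have hpo : ∀ {i k : ι}, i ≠ i₀ → k ≠ i₀ → k ≠ i → (r i = 3 ∨ r i = 5 ∨ r i = 7) ∧ (r k = 3 ∨ r k = 5 ∨ r k = 7) := by
        intro i k hi hk hki
        obtain ⟨y, hy⟩ := hmem i hi
        obtain ⟨z, hz⟩ := hmem k hk
        exact pair_orders (hx.prime i) (hx.prime k) (hrn hki) (hr2 hi) (hr2 hk) (hoy hy) (hoy hz) (hcomm hy hz)
      have hthree : ∀ k, k = i₀ ∨ k = a ∨ k = b := by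
        intro k
        by_contra hk
        push Not at hk
        obtain ⟨hk0, hka, hkb⟩ := hk
        obtain ⟨h1, h3⟩ := hpo ha0 hb0 hba
        obtain ⟨-, h4⟩ := hpo ha0 hk0 hka
        have h5 := hrn hba
        have h6 := hrn hka
        have h7 := hrn hkb
        have key : ∀ {a b c : ι}, a ≠ i₀ → b ≠ i₀ → c ≠ i₀ → r a = 3 → r b = 5 → r c = 7 → False := by
          intro a b c ha hb hc h3 h5 h7
          obtain ⟨y, hy⟩ := hmem a ha
          obtain ⟨z, hz⟩ := hmem b hb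
          obtain ⟨w, hw⟩ := hmem c hc
          exact no_357 ((hoy hy).trans h3) ((hoy hz).trans h5) ((hoy hw).trans h7) (hcomm hy hz) (hcomm hy hw)
            (hcomm hz hw)
        rcases h1 with h1 | h1 | h1 <;> rcases h3 with h3 | h3 | h3 <;> rcases h4 with h4 | h4 | h4 <;>
          first
            | exact h5 (h1.trans h3.symm)
            | exact h6 (h1.trans h4.symm)
            | exact h7 (h3.trans h4.symm)
            | exact key ha0 hb0 hk0 h1 h3 h4
            | exact key ha0 hk0 hb0 h1 h4 h3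
            | exact key hb0 ha0 hk0 h3 h1 h4
            | exact key hb0 hk0 ha0 h3 h4 h1
            | exact key hk0 ha0 hb0 h4 h1 h3
            | exact key hk0 hb0 ha0 h4 h3 h1
      obtain ⟨hpa, hpb⟩ := hpo ha0 hb0 hba
      refine kill_pair (Ω := Ω) (fun c hc h => H344.RG.HNcen.center_OO hc h) F hRC hF (t := x i₀) (x := ya) (y := yb)
        (hrn hba) hpa hpb ⟨htt, hi₀, hoy hya, hoy hyb, hcomm hya hyb, ?_, ?_, fun ω => ?_⟩
      · rw [hya]; exact hx.comm _ _
      · rw [hyb]; exact hx.comm _ _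
      · rw [hya, hyb]
        obtain ⟨k, hk⟩ := hc ω
        rcases hthree k with rfl | rfl | rfl
        · exact Or.inl hk
        · exact Or.inr (Or.inl hk)
        · exact Or.inr (Or.inr hk)

theorem noCov_hn (hIH : IHx (Nat.card Spor.HN)) : NoCov Spor.HN := by
  intro G _ _ Ω _ _ _ N hE e ι _ x r hx hc _
  have hNn := hE.norm
  let j : Spor.HN →* G := N.subtype.comp e.symm.toMonoidHom
  let φ : G →* MulAut Spor.HN := (MulAut.congr e).toMonoidHom.comp (MulAut.conjNormal (H := N))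
  have hact : ∀ g u, g * j u * g⁻¹ = j (φ g u) := by
    intro g u
    show g * ((e.symm u : N) : G) * g⁻¹ = ((e.symm (e (MulAut.conjNormal g (e.symm u))) : N) : G)
    rw [e.symm_apply_apply, MulAut.conjNormal_apply]
  have F : Fr j φ := by
    refine ⟨?_, hact, ?_⟩
    · exact (Subgroup.subtype_injective N).comp e.symm.injective
    · rw [injective_iff_map_eq_one]
      intro g hg
      have h1 : g ∈ centralizer (N : Set G) := by
        rw [mem_centralizer_iff]
        intro n hn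
        have h2 := hact g (e ⟨n, hn⟩)
        rw [hg] at h2
        have h3 : j (e ⟨n, hn⟩) = n := by
          show ((e.symm (e ⟨n, hn⟩) : N) : G) = n
          rw [e.symm_apply_apply]
        rw [show (1 : MulAut Spor.HN) (e ⟨n, hn⟩) = e ⟨n, hn⟩ from rfl, h3] at h2
        exact (mul_inv_eq_iff_eq_mul.1 h2).symm
      rw [hE.cent] at h1
      exact mem_bot.1 h1
  exact noCov_fr hIH F (fun t ht => hE.exists_move ht) hx hc

theorem rc_hn (hIH : IHx (Nat.card Spor.HN)) (hS : IsSimpleGroup Spor.HN) (hn : ¬ IsMulCommutative Spor.HN) :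
    RC Spor.HN := by
  have := fin
  exact rc_of_noCov hS hn (noCov_hn hIH)

/-- **the row `HN`** -/
theorem row_hn : RowX (fun S _ => Spor.IsoHN S) := by
  intro S _ _ hS h hIH
  obtain ⟨e⟩ := h
  have := fin
  refine RC.congr e.symm (rc_hn ?_ ?_ ?_)
  · rw [← Nat.card_congr e.toEquiv]; exact hIH
  · have := hS.simple
    have : Nontrivial Spor.HN := e.symm.toEquiv.nontrivial
    exact IsSimpleGroup.isSimpleGroup_of_surjective e.toMonoidHom e.surjective
  · intro hcomm
    apply hS.ncomm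
    refine ⟨⟨fun a b => e.injective ?_⟩⟩
    rw [map_mul, map_mul]
    exact hcomm.is_comm.comm _ _

end Cfsg.Agent.H31.RC.Spor.HN
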