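import Cfsg.Agent.H31.RC.Spor.Gen
import Cfsg.Agent.KFacts.Th.Main
import Cfsg.Agent.H555.Hall.ThCent
import Cfsg.Agent.H478.Th3C
import Cfsg.Agent.H491.PB.ThC
import Cfsg.Agent.H502.TO.Loc
import Cfsg.Agent.H723.Spor.Th

/-!
# S3509, the Thompson group (helper31)

* `eight_three` : `8 ∣ |C(w)|` for `w` of order 3;
* `noCov_th`, `rc_th` : the row `Th`.
-/

set_option autoImplicit false
open Cfsg

namespace Cfsg.Agent.H31.RC.Spor

open MulAction Subgroup Cfsg.Agent.H106.RC

section pairs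

variable {G : Type*} [Group G]

/-- the family of two elements -/
def two (a b : G) : Bool → G := fun c => cond c a b

/-- two commuting elements of different prime orders -/
theorem pf_two {a b : G} {p q : ℕ} (hp : p.Prime) (hq : q.Prime) (hpq : p ≠ q) (ha : orderOf a = p)
    (hb : orderOf b = q) (hab : a * b = b * a) : PF (two a b) (fun c => cond c p q) := by
  refine ⟨?_, ?_, ?_, ?_, ?_⟩
  · rintro (_ | _)
    · exact hq
    · exact hp
  · rintro (_ | _) (_ | _) h
    · rfl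
    · exact absurd h.symm hpq
    · exact absurd h hpq
    · rfl
  · rintro (_ | _)
    · show b ^ q = 1
      rw [← hb, pow_orderOf_eq_one]
    · show a ^ p = 1
      rw [← ha, pow_orderOf_eq_one]
  · rintro (_ | _) h
    · rw [show b = 1 from h, orderOf_one] at hb
      exact hq.one_lt.ne hb
    · rw [show a = 1 from h, orderOf_one] at ha
      exact hp.one_lt.ne ha
  · rintro (_ | _) (_ | _)
    · rfl
    · exact hab.symm
    · exact hab
    · rfl

theorem cov_two {Ω : Type*} [MulAction G Ω] {a b : G} (h : ∀ ω : Ω, a • ω = ω ∨ b • ω = ω) : Cov Ω (two a b) := by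
  intro ω
  rcases h ω with h | h
  · exact ⟨true, h⟩
  · exact ⟨false, h⟩

theorem orderOf_of_pf {ι : Type*} {x : ι → G} {r : ι → ℕ} (h : PF x r) (i : ι) : orderOf (x i) = r i := by
  have hf : Fact (r i).Prime := ⟨h.prime i⟩
  exact orderOf_eq_prime (h.pow i) (h.ne i)

theorem card_cent_conj (g x : G) :
    Nat.card (centralizer ({g * x * g⁻¹} : Set G)) = Nat.card (centralizer ({x} : Set G)) := by
  refine Nat.card_congr ⟨fun y => ⟨g⁻¹ * y * g, ?_⟩, fun y => ⟨g * y * g⁻¹, ?_⟩, ?_, ?_⟩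
  · have h1 := mem_centralizer_singleton_iff.1 y.2
    rw [mem_centralizer_singleton_iff]
    calc g⁻¹ * y * g * x = g⁻¹ * (y * (g * x * g⁻¹)) * g := by group
      _ = g⁻¹ * ((g * x * g⁻¹) * y) * g := by rw [h1]
      _ = x * (g⁻¹ * y * g) := by group
  · have h1 := mem_centralizer_singleton_iff.1 y.2
    rw [mem_centralizer_singleton_iff]
    calc g * y * g⁻¹ * (g * x * g⁻¹) = g * (y * x) * g⁻¹ := by group
      _ = g * (x * y) * g⁻¹ := by rw [h1]
      _ = g * x * g⁻¹ * (g * y * g⁻¹) := by group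
  · intro y
    apply Subtype.ext
    show g * (g⁻¹ * (y : G) * g) * g⁻¹ = y
    group
  · intro y
    apply Subtype.ext
    show g⁻¹ * (g * (y : G) * g⁻¹) * g = y
    group

/-- `q ∣ |C(x)|` for commuting elements -/
theorem dvd_cent [Finite G] {x y : G} {q : ℕ} (hy : orderOf y = q) (hxy : y * x = x * y) :
    q ∣ Nat.card (centralizer ({x} : Set G)) := by
  have h1 : y ∈ centralizer ({x} : Set G) := mem_centralizer_singleton_iff.2 hxy
  have h2 := Subgroup.orderOf_dvd_natCard _ h1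
  rwa [hy] at h2

end pairs

namespace Th

open Cfsg.Agent.Th.Base Cfsg.Agent.Th.Word Cfsg.Agent.Th.CStruct Cfsg.Agent.Th.IndexUpper
open Cfsg.Agent.KFacts.Th.Mask Cfsg.Agent.KFacts.Th.Struct
open Cfsg.Agent.CpAutTh.Data Cfsg.Agent.CpAutTh.Local Cfsg.Agent.BpSpor.ThCent

theorem fin : Finite Spor.Th := Nat.finite_of_card_ne_zero (by rw [Cfsg.Agent.H723.Spor.Th.card_th]; norm_num)

theorem simple : IsSimpleGroup Spor.Th := Cfsg.Agent.Th.Main1700.isTh.1

/-- **`8 ∣ |C(w)|` for `w` of order 3** -/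
theorem eight_three {w : Spor.Th} (hw : orderOf w = 3) : 8 ∣ Nat.card (centralizer ({w} : Set Spor.Th)) := by
  have := fin
  have h := Cfsg.Agent.KFacts.Th.Main.ctx
  obtain ⟨f, F⟩ := exists_epi h
  obtain ⟨t, ht, hwt⟩ := Cfsg.Agent.H478.ThThree.exists_invol hw
  obtain ⟨g, hg⟩ := Cfsg.Agent.H723.Spor.Th.hone t ht
  have hc : (g * w * g⁻¹) * gTh 1 = gTh 1 * (g * w * g⁻¹) := by
    rw [← hg]
    calc g * w * g⁻¹ * (g * t * g⁻¹) = g * (w * t) * g⁻¹ := by group
      _ = g * (t * w) * g⁻¹ := by rw [hwt]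
      _ = g * t * g⁻¹ * (g * w * g⁻¹) := by group
  have hmem := h.mem_C.2 hc
  let x : sub gTh isC := ⟨g * w * g⁻¹, hmem⟩
  have hx : orderOf x = 3 := by
    rw [← Subgroup.orderOf_coe]
    show orderOf (g * w * g⁻¹) = 3
    rw [← hw]
    exact orderOf_injective (MulAut.conj g).toMonoidHom (MulAut.conj g).injective w
  have key : ∀ {X : List ℕ} (hX : ∀ x ∈ X, isC x = true), 8 ∣ Nat.card (centralizer ({ev gTh X} : Set Spor.Th)) →
      ∀ c : sub gTh isC, c * x * c⁻¹ = ⟨ev gTh X, ev_mem_sub hX⟩ → 8 ∣ Nat.card (centralizer ({w} : Set Spor.Th)) := by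
    intro X hX h8 c hcx
    have h1 : (c : Spor.Th) * (g * w * g⁻¹) * (c : Spor.Th)⁻¹ = ev gTh X := congrArg Subtype.val hcx
    rw [← h1, card_cent_conj, card_cent_conj] at h8
    exact h8
  obtain ⟨c, hc3⟩ := exists_rep_three h F hx
  rcases hc3 with h1 | h1 | h1
  · refine key c3 ?_ c h1
    have h2 := Cfsg.Agent.BpSpor.ThThree.range_card h F
    have h3 : 1080 ∣ Nat.card ↥(centralizer ({sx h c3} : Set ↥(centralizer ({ev gTh X3} : Set Spor.Th)))) := by
      rw [← h2]
      exact Subgroup.card_range_dvd _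
    exact (show 8 ∣ 1080 by norm_num).trans (h3.trans (Subgroup.card_subgroup_dvd_card _))
  · refine key c33 ?_ c h1
    have h2 := Cfsg.Agent.CpAutTh.ThreeE.card_E h
    have h3 : Nat.card ↥(Cfsg.Agent.CpAutTh.ThreeE.E gTh) ∣ Nat.card (centralizer ({ev gTh X33} : Set Spor.Th)) :=
      Subgroup.card_dvd_of_le inf_le_right
    rw [h2] at h3
    exact (show 8 ∣ 32 by norm_num).trans h3
  · exact key c333 (Cfsg.Agent.H555.Hall.ThC.eight h) c h1

theorem not_comm : ¬ IsMulCommutative Spor.Th := by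
  intro hc
  have h := Cfsg.Agent.KFacts.Th.Main.large Cfsg.Agent.KFacts.Th.Main.ctx
  have h1 : ∀ x ∈ Q0 gTh, x = 1 ∨ x = gTh 1 := fun x hx => h.cent x hx fun y _ => hc.is_comm.comm x y
  have h2 : Nat.card (Q0 gTh) ≤ 2 := by
    classical
    have h3 : ((Q0 gTh : Subgroup Spor.Th) : Set Spor.Th) ⊆ (({1, gTh 1} : Finset Spor.Th) : Set Spor.Th) := by
      intro x hx
      rcases h1 x hx with rfl | rfl <;> simp
    calc Nat.card (Q0 gTh) = ((Q0 gTh : Subgroup Spor.Th) : Set Spor.Th).ncard := rfl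
      _ ≤ (({1, gTh 1} : Finset Spor.Th) : Set Spor.Th).ncard := Set.ncard_le_ncard h3 (Finset.finite_toSet _)
      _ ≤ 2 := by rw [Set.ncard_coe_finset]; exact Finset.card_le_two
  rw [Cfsg.Agent.KFacts.Th.Main.ctx.cardQ] at h2
  norm_num at h2

theorem prime_cases {q : ℕ} (hq : q.Prime) (hd : q ∣ 90745943887872000) :
    q = 2 ∨ q = 3 ∨ q = 5 ∨ q = 7 ∨ q = 13 ∨ q = 19 ∨ q = 31 := by
  have h1 : q ∈ Nat.primeFactors 90745943887872000 := Nat.mem_primeFactors.2 ⟨hq, hd, by norm_num⟩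
  have h2 : 90745943887872000 = 2 ^ 15 * 3 ^ 10 * 5 ^ 3 * 7 ^ 2 * 13 * 19 * 31 := by norm_num
  rw [h2] at hd
  have hp : ∀ {p : ℕ}, p.Prime → q ∣ p → q = p := fun hp h => (Nat.prime_dvd_prime_iff_eq hq hp).1 h
  rcases hq.dvd_mul.1 hd with hd | hd
  · rcases hq.dvd_mul.1 hd with hd | hd
    · rcases hq.dvd_mul.1 hd with hd | hd
      · rcases hq.dvd_mul.1 hd with hd | hd
        · rcases hq.dvd_mul.1 hd with hd | hd
          · rcases hq.dvd_mul.1 hd with hd | hd
            · exact Or.inl (hp (by norm_num) (hq.dvd_of_dvd_pow hd))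
            · exact Or.inr (Or.inl (hp (by norm_num) (hq.dvd_of_dvd_pow hd)))
          · exact Or.inr (Or.inr (Or.inl (hp (by norm_num) (hq.dvd_of_dvd_pow hd))))
        · exact Or.inr (Or.inr (Or.inr (Or.inl (hp (by norm_num) (hq.dvd_of_dvd_pow hd)))))
      · exact Or.inr (Or.inr (Or.inr (Or.inr (Or.inl (hp (by norm_num) hd)))))
    · exact Or.inr (Or.inr (Or.inr (Or.inr (Or.inr (Or.inl (hp (by norm_num) hd))))))
  · exact Or.inr (Or.inr (Or.inr (Or.inr (Or.inr (Or.inr (hp (by norm_num) hd))))))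

/-- commuting elements of different odd prime orders: one of them has order 3, the other one 5, 7 or 13 -/
theorem pair_orders {x y : Spor.Th} {p q : ℕ} (hp : p.Prime) (hq : q.Prime) (hpq : p ≠ q) (hp2 : p ≠ 2) (hq2 : q ≠ 2)
    (hx : orderOf x = p) (hy : orderOf y = q) (hxy : x * y = y * x) :
    (p = 3 ∧ (q = 5 ∨ q = 7 ∨ q = 13)) ∨ (q = 3 ∧ (p = 5 ∨ p = 7 ∨ p = 13)) := by
  have := fin
  have hpd : p ∣ 90745943887872000 := by
    rw [← Cfsg.Agent.H723.Spor.Th.card_th, ← hx]; exact orderOf_dvd_natCard x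
  have hqd : q ∣ 90745943887872000 := by
    rw [← Cfsg.Agent.H723.Spor.Th.card_th, ← hy]; exact orderOf_dvd_natCard y
  have h1 := dvd_cent hy hxy.symm
  have h2 := dvd_cent hx hxy
  have k5 := fun (z : Spor.Th) (hz : orderOf z = 5) => Cfsg.Agent.H502.TO.card_five hz
  have k7 := fun (z : Spor.Th) (hz : orderOf z = 7) => Cfsg.Agent.H491.PB.Th.card_seven hz
  have k19 := fun (z : Spor.Th) (hz : orderOf z = 19) => Cfsg.Agent.H491.PB.Th.card_nineteen hz
  have k31 := fun (z : Spor.Th) (hz : orderOf z = 31) => Cfsg.Agent.H491.PB.Th.card_thirtyone hz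
  rcases prime_cases hp hpd with rfl | rfl | rfl | rfl | rfl | rfl | rfl <;>
    rcases prime_cases hq hqd with rfl | rfl | rfl | rfl | rfl | rfl | rfl <;>
    first
      | exact absurd rfl hp2
      | exact absurd rfl hq2
      | exact absurd rfl hpq
      | (left; refine ⟨rfl, ?_⟩; norm_num; done)
      | (right; refine ⟨rfl, ?_⟩; norm_num; done)
      | (exfalso; rw [k5 x hx] at h1; revert h1; norm_num; done)
      | (exfalso; rw [k5 y hy] at h2; revert h2; norm_num; done)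
      | (exfalso; rw [k7 x hx] at h1; revert h1; norm_num; done)
      | (exfalso; rw [k7 y hy] at h2; revert h2; norm_num; done)
      | (exfalso; rw [k19 x hx] at h1; revert h1; norm_num; done)
      | (exfalso; rw [k19 y hy] at h2; revert h2; norm_num; done)
      | (exfalso; rw [k31 x hx] at h1; revert h1; norm_num; done)
      | (exfalso; rw [k31 y hy] at h2; revert h2; norm_num; done)

section cover

variable {Ω : Type} [Finite Ω] [Nonempty Ω] [MulAction Spor.Th Ω]

/-- families commuting with an involution -/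
theorem dead_inv (hF : ∀ t : Spor.Th, t ≠ 1 → ∃ ω : Ω, t • ω ≠ ω) {ι : Type} [Finite ι] {x : ι → Spor.Th} {r : ι → ℕ}
    (h : PF x r) (hc : Cov Ω x) {t : Spor.Th} (ht : orderOf t = 2) (hcomm : ∀ i, x i * t = t * x i)
    (h2 : ∀ i, r i = 2 → x i = t) : False := by
  have := fin
  obtain ⟨g, hg⟩ := Cfsg.Agent.H723.Spor.Th.hone t ht
  have L := Large.conj (Cfsg.Agent.KFacts.Th.Main.large Cfsg.Agent.KFacts.Th.Main.ctx) g⁻¹
  have e : g⁻¹ * gTh 1 * g⁻¹⁻¹ = t := by rw [← hg]; group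
  rw [e] at L
  exact ruleA hF h hc L hcomm h2

/-- odd pairs -/
theorem dead_pair (hF : ∀ t : Spor.Th, t ≠ 1 → ∃ ω : Ω, t • ω ≠ ω) {x y : Spor.Th} {q : ℕ} (hx : orderOf x = 3)
    (hy : orderOf y = q) (hq : q = 5 ∨ q = 7 ∨ q = 13) (hxy : x * y = y * x)
    (hc : ∀ ω : Ω, x • ω = ω ∨ y • ω = ω) : False := by
  have := fin
  have hqp : q.Prime := by rcases hq with rfl | rfl | rfl <;> norm_num
  have hq3 : (3 : ℕ) ≠ q := by rcases hq with rfl | rfl | rfl <;> norm_num
  have hq2 : q ≠ 2 := by rcases hq with rfl | rfl | rfl <;> norm_num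
  have hno : ∀ t : Spor.Th, orderOf t = 2 → t * x = x * t → t * y = y * t → False := by
    intro t ht h1 h2
    refine dead_inv hF (pf_two Nat.prime_three hqp hq3 hx hy hxy) (cov_two hc) ht ?_ ?_
    · rintro (_ | _)
      · exact h2.symm
      · exact h1.symm
    · rintro (_ | _) h
      · exact absurd h hq2
      · exact absurd h (by norm_num)
  have hdone : ∀ {z : Spor.Th} {p : ℕ}, p.Prime → p ≠ 2 → orderOf z = p →
      (∃ t : Spor.Th, orderOf t = 2 ∧ t * z = z * t ∧ ∀ ω : Ω, z • ω = ω ∨ t • ω = ω) → False := by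
    rintro z p hp hp2 hz ⟨t, ht, h1, h2⟩
    refine dead_inv hF (pf_two hp Nat.prime_two hp2 hz ht h1.symm) (cov_two h2) ht ?_ ?_
    · rintro (_ | _)
      · rfl
      · exact h1.symm
    · rintro (_ | _) h
      · rfl
      · exact absurd h hp2
  have hc' : ∀ ω : Ω, y • ω = ω ∨ x • ω = ω := fun ω => (hc ω).symm
  rcases hq with rfl | rfl | rfl
  · refine hdone (by norm_num) (by norm_num) hy (pair_even (x := y) (y := x) hxy 3 Nat.prime_three hx ?_ ?_ ?_
      (fun t ht h1 h2 => hno t ht h2 h1) hc')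
    · rw [Cfsg.Agent.H502.TO.card_five hy]; norm_num
    · rw [Cfsg.Agent.H502.TO.card_five hy]; norm_num
    · norm_num
  · refine hdone (by norm_num) (by norm_num) hy (pair_even (x := y) (y := x) hxy 3 Nat.prime_three hx ?_ ?_ ?_
      (fun t ht h1 h2 => hno t ht h2 h1) hc')
    · rw [Cfsg.Agent.H491.PB.Th.card_seven hy]; norm_num
    · rw [Cfsg.Agent.H491.PB.Th.card_seven hy]; norm_num
    · norm_num
  · refine hdone Nat.prime_three (by norm_num) hx (pair_even (x := x) (y := y) hxy.symm 3 (by norm_num) hy ?_ ?_ ?_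
      hno hc)
    · intro hd
      have h1 := hd.trans (Subgroup.card_subgroup_dvd_card _)
      rw [Cfsg.Agent.H723.Spor.Th.card_th] at h1
      revert h1
      norm_num
    · exact eight_three hx
    · norm_num

end cover

theorem noCov_th : NoCov Spor.Th := by
  have := fin
  refine Cfsg.Agent.H867.RC.noCov_of_inner Cfsg.Agent.KFacts.Th.Main.inner ?_
  intro Ω _ _ _ hE ι _ x r hx hc _
  have hF : ∀ t : Spor.Th, t ≠ 1 → ∃ ω : Ω, t • ω ≠ ω := fun t ht => hE.exists_move ht
  -- no involution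
  have h2 : ∀ i, r i ≠ 2 := by
    intro i hi
    refine dead_inv hF hx hc (t := x i) (by rw [orderOf_of_pf hx, hi]) (fun j => hx.comm _ _) ?_
    intro j hj
    rw [hx.inj (hj.trans hi.symm)]
  obtain ⟨ω⟩ := (inferInstance : Nonempty Ω)
  obtain ⟨i, -⟩ := hc ω
  obtain ⟨j, hji⟩ := Cov.two hE hc hx.ne i
  have hpo : ∀ {i j : ι}, j ≠ i → (r i = 3 ∧ (r j = 5 ∨ r j = 7 ∨ r j = 13)) ∨ (r j = 3 ∧ (r i = 5 ∨ r i = 7 ∨ r i = 13)) :=
    fun {i j} hji => pair_orders (hx.prime i) (hx.prime j) (fun h => hji (hx.inj h).symm) (h2 i) (h2 j)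
      (orderOf_of_pf hx i) (orderOf_of_pf hx j) (hx.comm i j)
  -- only two members
  have htwo : ∀ k, k = i ∨ k = j := by
    intro k
    by_contra hk
    push Not at hk
    have h1 := hpo hji
    have h3 := hpo hk.1
    have h4 := hpo hk.2
    have h5 : r i ≠ r j := fun h => hji (hx.inj h).symm
    have h6 : r k ≠ r i := fun h => hk.1 (hx.inj h)
    have h7 : r k ≠ r j := fun h => hk.2 (hx.inj h)
    omega
  have hcij : ∀ ω : Ω, x i • ω = ω ∨ x j • ω = ω := by
    intro ω
    obtain ⟨k, hk⟩ := hc ω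
    rcases htwo k with rfl | rfl
    · exact Or.inl hk
    · exact Or.inr hk
  rcases hpo hji with ⟨h3, hq⟩ | ⟨h3, hq⟩
  · exact dead_pair hF ((orderOf_of_pf hx i).trans h3) (orderOf_of_pf hx j) hq (hx.comm i j) hcij
  · exact dead_pair hF ((orderOf_of_pf hx j).trans h3) (orderOf_of_pf hx i) hq (hx.comm j i)
      (fun ω => (hcij ω).symm)

/-- **the row `Th`** -/
theorem rc_th : RC Spor.Th := by
  have := fin
  exact rc_of_noCov simple not_comm noCov_th

/-- **the row `Th`** -/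
theorem row_th {S : Type} [Group S] (h : Spor.IsoTh S) : RC S := by
  obtain ⟨e⟩ := h
  exact RC.congr e.symm rc_th

end Th

end Cfsg.Agent.H31.RC.Spor
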